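import Groth.Agent.LeadUV.Formal
import Groth.Agent.H11Ample.Global
import Groth.Agent.H29RR.Invert
import Groth.Agent.H24Formal.LimitSections
import Groth.Agent.H10Coh.Proper
import Groth.Agent.H10Coh.Proj.Coherent

/-!
# Subsystems of a coherent formal module are generated by compatible twisted sections
-/

set_option autoImplicit false
set_option linter.style.haveILetI false
set_option linter.unusedSectionVars false

noncomputable section

universe u

open CategoryTheory CategoryTheory.Limits AlgebraicGeometry Opposite TopologicalSpace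
open Groth.Agent.H11Tilde Groth.Agent.H11Ample

namespace Groth.Agent.LeadGE

open Groth.Agent.H10Coh Groth.Agent.H10Coh.Tw Groth.Agent.LeadUV

attribute [local instance 10000] H10Coh.hasSheafifyAb H10Coh.hasWeakSheafifyAb H10Coh.hasExtAb H10Coh.enoughInjAb

variable {A : Type u} [CommRing A] {X : Scheme.{u}} [X.Over (Spec (CommRingCat.of A))] {I : Ideal A}

/-- A system of coherent submodules with surjective transition maps. -/
structure SubSys (G : ℕᵒᵖ ⥤ X.Modules) where
  K : ℕ → X.Modules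
  coh : ∀ n, Coh.IsCoh (K n)
  j : ∀ n, K n ⟶ G.obj (op n)
  mono_j : ∀ n, Mono (j n)
  τ : ∀ n, K (n + 1) ⟶ K n
  epi_τ : ∀ n, Epi (τ n)
  comm : ∀ n, τ n ≫ j n = j (n + 1) ≫ tr G n

namespace SubSys

variable {G : ℕᵒᵖ ⥤ X.Modules} (hG : Formal.IsCohFormal I G) (S : SubSys G)

/-- The whole system. -/
def whole : SubSys G where
  K n := G.obj (op n)
  coh := hG.1
  j n := 𝟙 _
  mono_j n := inferInstance
  τ n := tr G n
  epi_τ n := (H24Formal.epi_and_factor hG (Nat.le_succ n)).1
  comm n := by rw [Category.comp_id, Category.id_comp]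

include hG in
theorem kill (n : ℕ) {a : A} (ha : a ∈ I) : kernel.ι (S.τ n) ≫ Formal.smulMod A (S.K (n + 1)) a = 0 := by
  haveI := S.mono_j (n + 1)
  have h0 : (kernel.ι (S.τ n) ≫ S.j (n + 1)) ≫ tr G n = 0 := by
    rw [Category.assoc, ← S.comm, ← Category.assoc, kernel.condition, Limits.zero_comp]
  rw [← cancel_mono (S.j (n + 1)), Category.assoc, H24Formal.smulMod_comm, ← Category.assoc,
    ← kernel.lift_ι (tr G n) _ h0, Category.assoc, ι_smulMod hG ha n, comp_zero, Limits.zero_comp]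

variable {a : A} (ha : a ∈ I)

/-- Multiplication by an element of the ideal, one level up. -/
def up (n : ℕ) : S.K (n + 1) ⟶ S.K (n + 2) :=
  haveI := S.epi_τ (n + 1)
  Abelian.epiDesc (S.τ (n + 1)) (Formal.smulMod A (S.K (n + 2)) a) (S.kill hG (n + 1) ha)

theorem τ_up (n : ℕ) : S.τ (n + 1) ≫ S.up hG ha n = Formal.smulMod A (S.K (n + 2)) a :=
  haveI := S.epi_τ (n + 1)
  Abelian.comp_epiDesc _ _ _

theorem up_j (n : ℕ) : S.up hG ha n ≫ S.j (n + 2) = S.j (n + 1) ≫ mulUp hG ha n := by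
  haveI := S.epi_τ (n + 1)
  rw [← cancel_epi (S.τ (n + 1)), ← Category.assoc, τ_up, ← Category.assoc (S.τ (n + 1)), S.comm,
    Category.assoc, tr_mulUp, H24Formal.smulMod_comm]

/-- The graded piece. -/
abbrev gr (n : ℕ) : X.Modules := kernel (S.τ n)

/-- Into the graded piece of the ambient system. -/
def jk (n : ℕ) : S.gr n ⟶ kernel (tr G n) :=
  kernel.lift (tr G n) (kernel.ι (S.τ n) ≫ S.j (n + 1)) (by
    rw [Category.assoc, ← S.comm, ← Category.assoc, kernel.condition, Limits.zero_comp])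

theorem jk_ι (n : ℕ) : S.jk n ≫ kernel.ι (tr G n) = kernel.ι (S.τ n) ≫ S.j (n + 1) := kernel.lift_ι _ _ _

theorem mono_jk (n : ℕ) : Mono (S.jk n) := by
  haveI := S.mono_j (n + 1)
  haveI : Mono (S.jk n ≫ kernel.ι (tr G n)) := by
    rw [jk_ι]
    exact mono_comp _ _
  exact mono_of_mono _ (kernel.ι (tr G n))

/-- Multiplication on the graded pieces. -/
def t (n : ℕ) : S.gr n ⟶ S.gr (n + 1) :=
  kernel.lift (S.τ (n + 1)) (kernel.ι (S.τ n) ≫ S.up hG ha n) (by
    haveI := S.mono_j (n + 1)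
    rw [← cancel_mono (S.j (n + 1)), Category.assoc, Category.assoc, S.comm, ← Category.assoc (S.up hG ha n),
      up_j, Category.assoc, mulUp_tr, ← H24Formal.smulMod_comm,
      ← Category.assoc, S.kill hG n ha, Limits.zero_comp])

theorem t_ι (n : ℕ) : S.t hG ha n ≫ kernel.ι (S.τ (n + 1)) = kernel.ι (S.τ n) ≫ S.up hG ha n :=
  kernel.lift_ι _ _ _

theorem t_jk (n : ℕ) : S.t hG ha n ≫ S.jk (n + 1) = S.jk n ≫ grMul hG ha n := by
  rw [← cancel_mono (kernel.ι (tr G (n + 1))), Category.assoc, jk_ι, Category.assoc, grMul_ι,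
    ← Category.assoc, t_ι, Category.assoc, up_j, ← Category.assoc, ← jk_ι, Category.assoc]

theorem t_comm {b : A} (hb : b ∈ I) (n : ℕ) :
    S.t hG ha n ≫ S.t hG hb (n + 1) = S.t hG hb n ≫ S.t hG ha (n + 1) := by
  haveI := S.mono_jk (n + 1 + 1)
  rw [← cancel_mono (S.jk (n + 1 + 1)), Category.assoc, Category.assoc, t_jk, t_jk, ← Category.assoc,
    ← Category.assoc, t_jk, t_jk, Category.assoc, Category.assoc, grMul_comm hG ha hb n]

include hG in
theorem isCoh_gr [IsLocallyNoetherian X] (n : ℕ) : Coh.IsCoh (S.gr n) :=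
  isCoh_kernel (S.τ n) (S.coh (n + 1)) (S.coh n).1

end SubSys

/-- A stable subfamily. -/
theorem noeAt_sub {R : Type u} [CommRing R] {r : ℕ} {N N' : ℕ → Type u} [∀ n, AddCommGroup (N n)]
    [∀ n, Module R (N n)] [∀ n, AddCommGroup (N' n)] [∀ n, Module R (N' n)]
    {t : Fin r → ∀ n, N n →ₗ[R] N (n + 1)} {t' : Fin r → ∀ n, N' n →ₗ[R] N' (n + 1)}
    (h : NoeAt N t) (j : ∀ n, N' n →ₗ[R] N n) (hj : ∀ n, Function.Injective (j n))
    (hcomm : ∀ i n, j (n + 1) ∘ₗ t' i n = t i n ∘ₗ j n) : NoeAt N' t' := by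
  intro S hS
  obtain ⟨c, hc⟩ := h (fun n => (S n).map (j n)) fun i n => by
    rw [← Submodule.map_comp, ← hcomm, Submodule.map_comp]
    exact Submodule.map_mono (hS i n)
  refine ⟨c, fun n hn => (Submodule.map_le_map_iff_of_injective (hj (n + 1)) _ _).1 ((hc n hn).trans ?_)⟩
  refine iSup_le fun i => ?_
  rw [← Submodule.map_comp, ← hcomm, Submodule.map_comp]
  exact Submodule.map_mono (le_iSup (fun i => (S n).map (t' i n)) i)

/-- A morphism out of the structure module is determined by the image of one. -/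
theorem homOfGlobal_comp {M N : X.Modules} (s : Γ(M, ⊤)) (f : M ⟶ N) :
    homOfGlobal M s ≫ f = homOfGlobal N (f.app ⊤ s) := by
  refine Scheme.Modules.hom_ext _ _ fun V => ?_
  ext r
  show f.app V ((homOfGlobal M s).app V r) = (homOfGlobal N (f.app ⊤ s)).app V r
  rw [homOfGlobal_app, homOfGlobal_app, Scheme.Modules.Hom.app_smul, app_map_apply]

theorem untwist_comm {F F' : X.Modules ⥤ X.Modules} (η : F ⋙ F' ≅ 𝟭 X.Modules) {E K K' : X.Modules}
    (f : E ⟶ F.obj K) (g : E ⟶ F.obj K') (τ : K ⟶ K') (h : f ≫ F.map τ = g) :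
    (F'.map f ≫ η.hom.app K) ≫ τ = F'.map g ≫ η.hom.app K' := by
  have hn : (F ⋙ F').map τ ≫ η.hom.app K' = η.hom.app K ≫ τ := η.hom.naturality τ
  rw [Category.assoc, ← hn, Functor.comp_map, ← Category.assoc, ← Functor.map_comp, h]

namespace SubSys

variable {G : ℕᵒᵖ ⥤ X.Modules} (S : SubSys G) [IsNoetherianRing A] [IsProper (X ↘ Spec (CommRingCat.of A))]

/-- Compatible twisted sections generating every level. -/
theorem exists_gen [IsNoetherian X] (hG : Formal.IsCohFormal I G) {L : X.Modules} (hA : CohB1.IsAmple L) :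
    ∃ (E : X.Modules) (_ : Coh.IsCoh E) (s : ∀ n, E ⟶ S.K n),
      (∀ n, s (n + 1) ≫ S.τ n = s n) ∧ ∀ n, Epi (s n) := by
  classical
  have hL : PicF.IsInvertible L := (isAmple_iff.1 hA).1
  have hv : ∀ M : X.Modules, Coh.IsCoh M → ∃ d₀, ∀ d, d₀ ≤ d → Van L d M :=
    fun M hM => exists_vanishing_ample (X ↘ Spec (CommRingCat.of A)) hA M hM
  obtain ⟨r, g, hg⟩ := Submodule.fg_iff_exists_fin_generating_family.1 (IsNoetherian.noetherian I)
  have hgI : ∀ i, g i ∈ I := fun i => hg ▸ Submodule.subset_span ⟨i, rfl⟩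
  have hN : ∀ U : X.Opens, IsAffineOpen U →
      NoeAt (R := Γ(X, U)) (fun n => Γ(S.gr n, U)) (fun i n => appLin (S.t hG (hgI i) n) U) := fun U hU =>
    noeAt_sub (noeAt_kernels hG g hgI hg.ge (IsNoetherian.noetherian I) hU) (fun n => appLin (S.jk n) U)
      (fun n => haveI := S.mono_jk n; injective_app_of_mono' (S.jk n) U)
      (fun i n => by rw [← appLin_comp, t_jk, appLin_comp])
  obtain ⟨d₁, hd₁⟩ := exists_uniform_van hL hv r S.gr (S.isCoh_gr hG) (fun i n => S.t hG (hgI i) n)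
    (fun i i' n => S.t_comm hG (hgI i) (hgI i') n) hN
  obtain ⟨T, hT⟩ := exists_finite_affine_cover X
  choose c hc using fun U : X.affineOpens => hN U.1 U.2 (fun _ => ⊤) (fun i n => le_top)
  have hσ : ∀ n, T.sup c ≤ n →
      Epi (biproduct.desc fun i : Fin r => S.t hG (hgI i) n) := fun n hn =>
    epi_of_surjective_on_cover _ (S.isCoh_gr hG (n + 1)).1 (fun U : {U // U ∈ T} => U.1.1) (fun U => U.1.2)
      (fun x => (hT x).elim fun U hU => ⟨⟨U, hU.1⟩, hU.2⟩) fun U => by
        refine ⟨⋃ i, Set.range ((S.t hG (hgI i) n).app U.1.1),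
          eq_top_iff.2 ((hc U.1 n (le_trans (Finset.le_sup U.2) hn)).trans (iSup_le fun i => ?_)), ?_⟩
        · rintro _ ⟨y, -, rfl⟩
          exact Submodule.subset_span (Set.mem_iUnion.2 ⟨i, y, rfl⟩)
        · intro z hz
          obtain ⟨i, y, rfl⟩ := Set.mem_iUnion.1 hz
          exact ⟨(biproduct.ι (fun _ : Fin r => S.gr n) i).app U.1.1 y,
            congr($(congrArg (fun φ => Scheme.Modules.Hom.app φ U.1.1)
              (biproduct.ι_desc (fun i : Fin r => S.t hG (hgI i) n) i)) y)⟩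
  obtain ⟨d₂, hd₂⟩ := eventually_spanning hA (S.coh (T.sup c + 1))
  obtain ⟨ι, _, g₀, hg₀⟩ := hd₂ (max d₁ d₂) (le_max_right _ _)
  have hLd := isInvertible_tensorPow hL (max d₁ d₂)
  obtain ⟨N, hNinv, ⟨e⟩⟩ := H29RR.exists_inverse_comm hLd
  let L' := CohB1.tensorPow L (max d₁ d₂)
  -- sections lift
  have hsurj : ∀ n, Function.Surjective ((LimSh.tensorModMap (S.τ n) L').app ⊤) := fun n => by
    haveI := S.epi_τ n
    have hs : (ShortComplex.mk (kernel.ι (S.τ n)) (S.τ n) (kernel.condition _)).ShortExact :=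
      { exact := ShortComplex.exact_of_f_is_kernel _ (kernelIsKernel _) }
    exact surjective_app_of_subsingleton_HnM (shortExact_seq hs hLd) ⊤
      (hd₁ _ (le_max_left _ _) n 1 Nat.one_pos)
  choose σ hσ₁ hσ₂ using fun i : ι => H24Formal.exists_chain (G := fun n => Γ(CohB1.tensorMod (S.K n) L', ⊤))
    (fun n => (LimSh.tensorModMap (S.τ n) L').app ⊤) (fun n => hsurj n) (T.sup c + 1) (g₀ i)
  let E₀ : X.Modules := ∐ fun _ : Fin (Fintype.card ι) => Coh.structureModule X
  let s' : ∀ n, E₀ ⟶ CohB1.tensorMod (S.K n) L' := fun n =>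
    Sigma.desc fun k => homOfGlobal _ (σ ((Fintype.equivFin ι).symm k) n)
  have hs' : ∀ n, s' (n + 1) ≫ (H29RR.twist L').map (S.τ n) = s' n := fun n => Sigma.hom_ext _ _ fun k => by
    rw [← Category.assoc, Sigma.ι_desc]
    refine Eq.trans ?_ (Sigma.ι_desc (fun k => homOfGlobal _ (σ ((Fintype.equivFin ι).symm k) n)) k).symm
    exact (homOfGlobal_comp _ _).trans (congrArg (homOfGlobal _) (hσ₂ _ n))
  haveI hs'c : Epi (s' (T.sup c + 1)) := by
    refine H11Tilde.epi_of_locally_surjective _ fun W t x hx => ?_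
    obtain ⟨V, hV, hxV, ht⟩ := hg₀ W t x hx
    refine ⟨V, hV, hxV, ?_⟩
    generalize (CohB1.tensorMod (S.K (T.sup c + 1)) L').presheaf.map (homOfLE hV).op t = t' at ht ⊢
    induction ht using Submodule.span_induction with
    | mem y hy =>
      obtain ⟨i, rfl⟩ := hy
      refine ⟨(Sigma.ι (fun _ : Fin (Fintype.card ι) => Coh.structureModule X) (Fintype.equivFin ι i)).app V
        (1 : Γ(X, V)), ?_⟩
      refine (congr($(congrArg (fun φ => Scheme.Modules.Hom.app φ V)
        (Sigma.ι_desc (fun k => homOfGlobal _ (σ ((Fintype.equivFin ι).symm k) (T.sup c + 1)))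
          (Fintype.equivFin ι i))) (1 : Γ(X, V)))).trans ?_
      rw [Equiv.symm_apply_apply, hσ₁, homOfGlobal_app, one_smul]
    | zero => exact ⟨0, map_zero _⟩
    | add y y' _ _ h h' =>
      obtain ⟨z, rfl⟩ := h; obtain ⟨z', rfl⟩ := h'
      exact ⟨z + z', map_add _ z z'⟩
    | smul q y _ h =>
      obtain ⟨z, rfl⟩ := h
      exact ⟨q • z, Scheme.Modules.Hom.app_smul _ q z⟩
  let E : X.Modules := CohB1.tensorMod E₀ N
  let s : ∀ n, E ⟶ S.K n := fun n => (H29RR.twist N).map (s' n) ≫ (H29RR.twistInv e).hom.app (S.K n)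
  have hs : ∀ n, s (n + 1) ≫ S.τ n = s n := fun n =>
    untwist_comm (H29RR.twistInv e) (s' (n + 1)) (s' n) (S.τ n) (hs' n)
  refine ⟨E, H11Ample.isCoh_tensor (isCoh_sigma _ fun _ => isCoh_structureModule' X) hNinv, s, hs, ?_⟩
  -- surjectivity propagates
  suffices hall : ∀ m, Epi (s (T.sup c + 1 + m)) by
    intro n
    have hmono : ∀ m, Epi (s (n + m)) → Epi (s n) := fun m => by
      induction m with
      | zero => exact id
      | succ m ih =>
        intro h
        refine ih ?_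
        haveI : Epi (s (n + m + 1)) := h
        haveI := S.epi_τ (n + m)
        rw [← hs (n + m)]
        exact epi_comp _ _
    exact hmono (T.sup c + 1) (by rw [Nat.add_comm n]; exact hall n)
  intro m
  induction m with
  | zero =>
    exact @epi_comp _ _ _ _ _ ((H29RR.twist N).map (s' (T.sup c + 1))) (H10Coh.Tw.epi_map (s' (T.sup c + 1)) hNinv)
      ((H29RR.twistInv e).hom.app (S.K (T.sup c + 1)))
      (@IsIso.epi_of_iso _ _ _ _ _ ((H29RR.twistInv e).app (S.K (T.sup c + 1))).isIso_hom)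
  | succ m ih =>
    haveI := ih
    obtain ⟨n, hn, hnc⟩ : ∃ n, T.sup c + 1 + m = n + 1 ∧ T.sup c ≤ n := ⟨T.sup c + m, by omega, by omega⟩
    haveI : Epi (s (n + 1)) := hn ▸ ih
    show Epi (s (T.sup c + 1 + m + 1))
    rw [hn]
    refine Preadditive.epi_of_cancel_zero _ fun {Q} h hh => ?_
    have hup : ∀ {a : A} (ha : a ∈ I), S.up hG ha n ≫ h = 0 := fun {a} ha => by
      rw [← cancel_epi (s (n + 1)), comp_zero, ← hs (n + 1), Category.assoc, ← Category.assoc (S.τ (n + 1)),
        τ_up, H24Formal.smulMod_comm, ← Category.assoc, hh, Limits.zero_comp]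
    have hker : kernel.ι (S.τ (n + 1)) ≫ h = 0 := by
      haveI := hσ n hnc
      rw [← cancel_epi (biproduct.desc fun i : Fin r => S.t hG (hgI i) n), comp_zero]
      refine biproduct.hom_ext' _ _ fun i => ?_
      rw [← Category.assoc, biproduct.ι_desc, ← Category.assoc, t_ι, Category.assoc, hup, comp_zero, comp_zero]
    haveI := S.epi_τ (n + 1)
    have hd : S.τ (n + 1) ≫ Abelian.epiDesc (S.τ (n + 1)) h hker = h := Abelian.comp_epiDesc _ _ _
    rw [← hd, ← Category.assoc, hs] at hh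
    rw [← hd, show Abelian.epiDesc (S.τ (n + 1)) h hker = 0 from (cancel_epi (s (n + 1))).1 (hh.trans comp_zero.symm),
      comp_zero]

end SubSys

end Groth.Agent.LeadGE
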