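import Groth.Agent.H11Ample.Pullback
import Groth.Agent.H11Tilde.ProjUPUnique
import Groth.Agent.H10Coh.Local
import Groth.Agent.H17.PullSectLocal
import Groth.Agent.H10Coh.FinType

/-!
# Generators of coherent modules from their truncations
-/

set_option autoImplicit false
set_option linter.style.haveILetI false
set_option linter.unusedSectionVars false

noncomputable section

universe u

open CategoryTheory CategoryTheory.Limits AlgebraicGeometry Opposite TopologicalSpace
open Groth.Agent.H11Tilde Groth.Agent.H11Ample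

namespace Groth.Agent.LeadGE

variable {X Y : Scheme.{u}}

/-- A section which generates freely after inverting `r` is a generator where `r` is invertible. -/
theorem isGen_basicOpen_of_smul (F : X.Modules) [F.IsQuasicoherent] {V : X.Opens} (hV : IsAffineOpen V)
    (m : Γ(F, V)) (r : Γ(X, V)) (hs : ∀ σ : Γ(F, V), ∃ a : Γ(X, V), r • σ = a • m)
    (hi : ∀ a : Γ(X, V), a • m = 0 → r * a = 0) :
    IsGen F (F.presheaf.map (homOfLE (X.basicOpen_le r)).op m) := by
  intro y hy
  have hyV : y ∈ V := X.basicOpen_le r hy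
  let ev : Γ(X, V) →+* X.presheaf.stalk y := (X.presheaf.germ V y hyV).hom
  have hru : IsUnit (ev r) := (X.mem_basicOpen r y hyV).1 hy
  obtain ⟨rinv, hrinv⟩ := hru.exists_left_inv
  have hbasis : ∀ {T : X.Opens}, y ∈ T → ∃ t : Γ(X, V), y ∈ X.basicOpen t ∧ X.basicOpen t ≤ T := fun hT => by
    obtain ⟨t, ht, hyt⟩ := hV.exists_basicOpen_le ⟨y, hT⟩ hyV
    exact ⟨t, hyt, ht⟩
  have hunit : ∀ (t : Γ(X, V)), y ∈ X.basicOpen t → ∀ n, IsUnit (ev (t ^ n)) := fun t ht n => by
    rw [map_pow]
    exact ((X.mem_basicOpen t y hyV).1 ht).pow n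
  rw [TopCat.Presheaf.germ_res_apply]
  constructor
  · intro c c' hcc
    rw [← sub_eq_zero]
    have h0 : (c - c') • F.presheaf.germ V y hyV m = 0 := by
      rw [sub_smul, sub_eq_zero]
      exact hcc
    obtain ⟨T, hyT, a₀, ha₀⟩ := X.presheaf.exists_germ_eq (c - c')
    obtain ⟨t, hyt, htT⟩ := hbasis hyT
    obtain ⟨n, a, ha⟩ : ∃ (n : ℕ) (a : Γ(X, V)), ev a = ev (t ^ n) * (c - c') := by
      haveI := hV.isLocalization_basicOpen t
      obtain ⟨⟨a, ⟨_, n, rfl⟩⟩, ha⟩ :=
        IsLocalization.surj (Submonoid.powers t) (X.presheaf.map (homOfLE htT).op a₀)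
      refine ⟨n, a, ?_⟩
      have h := congrArg (X.presheaf.germ (X.basicOpen t) y hyt) ha
      rw [RingHom.algebraMap_toAlgebra, map_mul] at h
      erw [TopCat.Presheaf.germ_res_apply, TopCat.Presheaf.germ_res_apply, TopCat.Presheaf.germ_res_apply] at h
      rw [ha₀, mul_comm] at h
      exact h.symm
    have ham : F.presheaf.germ V y hyV (a • m) = 0 := by
      rw [H06Mod.germ_smul]
      show ev a • _ = 0
      rw [ha, mul_smul, h0, smul_zero]
    obtain ⟨T', hyT', i', j', hT'⟩ := F.presheaf.germ_eq y hyV hyV (a • m) 0 (ham.trans (map_zero _).symm)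
    obtain ⟨t', hyt', ht'T⟩ := hbasis hyT'
    obtain ⟨N, hN⟩ := H10Coh.exists_pow_smul_eq_zero_of_isCompact F hV.isCompact t' (a • m) (by
      have := congrArg (F.presheaf.map (homOfLE ht'T).op) hT'
      rw [map_zero, map_zero, show i' = homOfLE i'.le from rfl, H10Coh.mres_mres] at this
      exact this)
    have h2 : ev r * (ev (t' ^ N) * ev a) = 0 := by
      rw [← map_mul, ← map_mul, hi _ (by rw [mul_smul]; exact hN), map_zero]
    rw [ha] at h2
    exact ((hunit t hyt n).mul_right_eq_zero).1 (((hunit t' hyt' N).mul_right_eq_zero).1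
      ((IsUnit.mul_right_eq_zero ((X.mem_basicOpen r y hyV).1 hy)).1 h2))
  · intro s
    obtain ⟨T, hyT, s₀, rfl⟩ := F.presheaf.exists_germ_eq s
    obtain ⟨t, hyt, htT⟩ := hbasis hyT
    obtain ⟨n, σ, hσ⟩ := H10Coh.exists_pow_smul_eq_res F hV t (F.presheaf.map (homOfLE htT).op s₀)
    have h1 : F.presheaf.germ V y hyV σ = ev (t ^ n) • F.presheaf.germ T y hyT s₀ := by
      have h := congrArg (F.presheaf.germ (X.basicOpen t) y hyt) hσ
      rw [H06Mod.germ_smul, TopCat.Presheaf.germ_res_apply, TopCat.Presheaf.germ_res_apply,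
        TopCat.Presheaf.germ_res_apply] at h
      exact h
    obtain ⟨a, ha⟩ := hs σ
    obtain ⟨tinv, htinv⟩ := (hunit t hyt n).exists_left_inv
    refine ⟨tinv * rinv * ev a, ?_⟩
    have h2 : ev r • F.presheaf.germ V y hyV σ = ev a • F.presheaf.germ V y hyV m := by
      rw [← H06Mod.germ_smul, ← H06Mod.germ_smul, ha]
    show (tinv * rinv * ev a) • F.presheaf.germ V y hyV m = _
    rw [mul_smul, ← h2, h1, smul_smul, smul_smul,
      show tinv * rinv * ev r * ev (t ^ n) = (tinv * ev (t ^ n)) * (rinv * ev r) by ring, htinv, hrinv,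
      mul_one, one_smul]

/-- Generators of an invertible module are detected after a surjective pullback. -/
theorem isGen_of_pullSect (i : X ⟶ Y) [Surjective i] {N : Y.Modules} (hN : PicF.IsInvertible N)
    {V : Y.Opens} (m : Γ(N, V))
    (h : IsGen ((Scheme.Modules.pullback i).obj N) (OmegaSh.pullSect i N V m)) : IsGen N m := by
  intro z hz
  obtain ⟨x, rfl⟩ := i.surjective z
  obtain ⟨W, e, hxW, he⟩ := exists_gen hN (i x)
  have he' := he.res (inf_le_right : V ⊓ W ≤ W)
  obtain ⟨c, hc⟩ := exists_coeff he' (N.presheaf.map (homOfLE inf_le_left).op m)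
  have hpe := IsGen.pullSect i he'
  have hx : x ∈ i ⁻¹ᵁ (V ⊓ W) := ⟨hz, hxW⟩
  have h1 := (h.res (show i ⁻¹ᵁ (V ⊓ W) ≤ i ⁻¹ᵁ V from fun _ hy => hy.1)) x hx
  rw [← pullSect_res i N inf_le_left m, hc, OmegaSh.pullSect_smul] at h1
  have hb : x ∈ X.basicOpen (i.app (V ⊓ W) c) := (bijective_smul_iff hpe _ hx).1 h1
  rw [← Scheme.preimage_basicOpen] at hb
  have h2 := (bijective_smul_iff he' c (show i x ∈ V ⊓ W from ⟨hz, hxW⟩)).2 hb
  rw [← hc, TopCat.Presheaf.germ_res_apply] at h2
  exact h2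

/-- Generators of the pullback along a composite. -/
theorem isGen_pullSect_comp {Z : Scheme.{u}} (g : X ⟶ Y) (h : Y ⟶ Z) (f : X ⟶ Z) (hf : f = g ≫ h)
    (M : Z.Modules) {V : Z.Opens} (m : Γ(M, V))
    (hg : IsGen ((Scheme.Modules.pullback f).obj M) (OmegaSh.pullSect f M V m)) :
    IsGen ((Scheme.Modules.pullback g).obj ((Scheme.Modules.pullback h).obj M))
      (OmegaSh.pullSect g ((Scheme.Modules.pullback h).obj M) (h ⁻¹ᵁ V) (OmegaSh.pullSect h M V m)) := by
  subst hf
  rw [← H17.PullSect.pullSect_comp]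
  exact IsGen.map_iso ((Scheme.Modules.pullbackComp g h).app M).symm hg

end Groth.Agent.LeadGE
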