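import Groth.Agent.LeadGE.Algebraize
import Groth.Agent.LeadGE.GenNhd

/-!
# An algebraization of a system of invertible modules is invertible
-/

set_option autoImplicit false
set_option linter.style.haveILetI false
set_option linter.unusedSectionVars false

noncomputable section

universe u

open CategoryTheory CategoryTheory.Limits AlgebraicGeometry Opposite TopologicalSpace CohB1
open Groth.Agent.H11Tilde Groth.Agent.H11Ample

namespace Groth.Agent.LeadGE

open Groth.Agent.LeadUV

variable {A : Type u} [CommRing A] [IsNoetherianRing A] {J : Ideal A} [IsAdicComplete J A]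
  {Y : Scheme.{u}} [Y.Over (Spec (CommRingCat.of A))] [IsProper (Y ↘ Spec (CommRingCat.of A))]
  {Xs : ℕ → Scheme.{u}} {p : (k : ℕ) → (Xs k ⟶ Spec (CommRingCat.of (A ⧸ J ^ (k + 1))))}
  {i : (k : ℕ) → (Xs k ⟶ Xs (k + 1))}
  (hcart : ∀ k, IsPullback (i k) (p k) (p (k + 1)) (CohB1.specQuotTrans J k))
  (e : ∀ k, Xs k ⟶ Y) (he : ∀ k, e k = i k ≫ e (k + 1))
  (hpb : ∀ k, IsPullback (e k) (p k) (Y ↘ Spec (CommRingCat.of A)) (CohB1.specQuot J k))

include hpb in
theorem isClosedImmersion_e (k : ℕ) : IsClosedImmersion (e k) := by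
  haveI : IsClosedImmersion (CohB1.specQuot J k) :=
    IsClosedImmersion.spec_of_surjective _ Ideal.Quotient.mk_surjective
  exact MorphismProperty.of_isPullback (hpb k).flip ‹IsClosedImmersion (CohB1.specQuot J k)›

include hpb in
theorem ker_e (k : ℕ) (W : Y.Opens) (hW : IsAffineOpen W) :
    RingHom.ker ((e k).app W).hom = (J ^ (k + 1)).map (H24Formal.scalA A W) := by
  haveI := isClosedImmersion_e e hpb k
  rw [← Scheme.Hom.ker_apply (e k) ⟨W, hW⟩]
  exact ker_ideal_of_pullback (RingHom.id A) (Ideal.Quotient.mk (J ^ (k + 1))) Ideal.Quotient.mk_surjective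
    ((Ideal.mk_ker).trans (Ideal.map_id _).symm) (hpb k)
    (by rw [CommRingCat.ofHom_id, Spec.map_id, Category.comp_id]) ⟨W, hW⟩

include hpb in
/-- An open containing the closed fibre is everything. -/
theorem eq_top_of_range_subset (U : Y.Opens) (h : Set.range (e 0) ⊆ U) : U = ⊤ := by
  refine eq_top_iff.2 fun y _ => ?_
  by_contra hy
  let g := Y ↘ Spec (CommRingCat.of A)
  let C : Set (Spec (CommRingCat.of A)) := g '' (U : Set Y)ᶜ
  have hC : IsClosed C := g.isClosedMap _ U.2.isClosed_compl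
  obtain ⟨I, hI⟩ := (PrimeSpectrum.isClosed_iff_zeroLocus_ideal C).1 hC
  have hI' : I ≠ ⊤ := fun hne => by
    have : g y ∈ C := ⟨y, hy, rfl⟩
    rw [hI, hne, Submodule.top_coe, PrimeSpectrum.zeroLocus_univ] at this
    exact this
  obtain ⟨𝔪, h𝔪, hle⟩ := I.exists_le_maximal hI'
  let P : PrimeSpectrum A := ⟨𝔪, h𝔪.isPrime⟩
  have hPC : (show Spec (CommRingCat.of A) from P) ∈ C := by
    rw [hI]
    exact (PrimeSpectrum.mem_zeroLocus _ _).2 hle
  obtain ⟨z, hz, hzP⟩ := hPC
  have hJ : J ≤ 𝔪 := ((IsAdicComplete.le_jacobson_bot J).trans (Ideal.jacobson_mono bot_le)).trans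
    (Ideal.jacobson_eq_self_of_isMaximal).le
  have hP : (show Spec (CommRingCat.of A) from P) ∈ Set.range (CohB1.specQuot J 0) := by
    refine ((range_comap_of_surjective (A ⧸ J ^ (0 + 1)) (Ideal.Quotient.mk (J ^ (0 + 1)))
      Ideal.Quotient.mk_surjective).ge ((PrimeSpectrum.mem_zeroLocus _ _).2 ?_) :)
    rw [Ideal.mk_ker, zero_add, pow_one]
    exact hJ
  have hz' : z ∈ Set.range (e 0) := by
    have hr : z ∈ Set.range (pullback.fst g (CohB1.specQuot J 0)) := by
      rw [Scheme.Pullback.range_fst]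
      show g z ∈ Set.range (CohB1.specQuot J 0)
      rwa [hzP]
    obtain ⟨w, hw⟩ := hr
    refine ⟨(hpb 0).isoPullback.inv w, ?_⟩
    rw [← Scheme.Hom.comp_apply, (hpb 0).isoPullback_inv_fst, hw]
  exact hz (h hz')

include hcart he hpb in
/-- A coherent module restricting to invertible modules on all the thickenings is invertible. -/
theorem isInvertible_algebraization {M : Y.Modules} (hM : Coh.IsCoh M)
    (hinv : ∀ k, PicF.IsInvertible ((Scheme.Modules.pullback (e k)).obj M)) : PicF.IsInvertible M := by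
  haveI : IsLocallyNoetherian Y := LocallyOfFiniteType.isLocallyNoetherian (Y ↘ Spec (CommRingCat.of A))
  haveI := hM.1
  haveI hcl := isClosedImmersion_e e hpb
  -- generators near the closed fibre
  have key : ∀ x : Xs 0, ∃ (V : Y.Opens) (m : Γ(M, V)), e 0 x ∈ V ∧ IsGen M m := by
    intro x
    obtain ⟨W, ε, hxW, hε⟩ := exists_gen (hinv 0) x
    obtain ⟨O, hO, hOW⟩ := (e 0).isEmbedding.isInducing.isOpen_iff.1 W.2
    have hxO : e 0 x ∈ (⟨O, hO⟩ : Y.Opens) := (Set.ext_iff.1 hOW x).2 hxW
    obtain ⟨V, hV, hxV, hVO⟩ := exists_isAffineOpen_mem_and_subset (U := (⟨O, hO⟩ : Y.Opens)) hxO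
    have hle : e 0 ⁻¹ᵁ V ≤ W := fun z hz => (Set.ext_iff.1 hOW z).1 (hVO hz)
    have hquot : ∀ k, H17.PullSect.IsQuotOn (e k) M V := fun k => by
      haveI : IsClosedImmersion (e k ∣_ V) :=
        IsZariskiLocalAtTarget.restrict (P := @IsClosedImmersion) (f := e k) (hcl k) _
      exact H17.PullSect.isQuotOn_of_isAffineOpen (e k) M hM.1 hV
    obtain ⟨m, hm⟩ := (hquot 0).1 (((Scheme.Modules.pullback (e 0)).obj M).presheaf.map (homOfLE hle).op ε)
    have hgen : ∀ k, IsGen ((Scheme.Modules.pullback (e k)).obj M) (OmegaSh.pullSect (e k) M V m) := fun k => by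
      induction k with
      | zero => exact hm ▸ hε.res hle
      | succ k ih =>
        haveI : Surjective (i k) := by
          refine ⟨fun z => ?_⟩
          obtain ⟨w, hw⟩ := (LeadUV.surjective_jj J p i hcart (k + 1)).surj z
          exact ⟨LeadUV.jj i k w, hw⟩
        exact isGen_of_pullSect (i k) (hinv (k + 1)) _
          (isGen_pullSect_comp (i k) (e (k + 1)) (e k) (he k) M m ih)
    let I := H24Formal.HomC.secIdeal J V
    have hker : ∀ k, RingHom.ker ((e k).app V).hom = I ^ (k + 1) := fun k =>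
      (ker_e e hpb k V hV).trans (Ideal.map_pow _ _ _)
    -- the section spans modulo the ideal
    let Q := Submodule.span Γ(Y, V) ({m} : Set Γ(M, V))
    have hsp : (⊤ : Submodule Γ(Y, V) (Γ(M, V) ⧸ Q)) ≤ I • ⊤ := fun q _ => by
      obtain ⟨σ, rfl⟩ := Submodule.Quotient.mk_surjective Q q
      obtain ⟨c, hc⟩ := exists_coeff (hgen 0) (OmegaSh.pullSect (e 0) M V σ)
      obtain ⟨a, rfl⟩ := (e 0).app_surjective V hV c
      rw [← OmegaSh.pullSect_smul] at hc
      have h0 := (hquot 0).2 (σ - a • m) (by rw [map_sub, hc, sub_self])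
      rw [hker 0, zero_add, pow_one] at h0
      have hmk : Submodule.Quotient.mk σ = (Submodule.Quotient.mk (σ - a • m) : Γ(M, V) ⧸ Q) :=
        (Submodule.Quotient.eq Q).2 (by
          rw [sub_sub_cancel]
          exact Submodule.smul_mem _ _ (Submodule.mem_span_singleton_self m))
      rw [hmk]
      have h1 := Submodule.mem_map_of_mem (f := Q.mkQ) h0
      rw [Submodule.map_smul''] at h1
      exact Submodule.smul_mono le_rfl le_top h1
    haveI := ((H10Coh.isCoh_iff_finite_sections M).1 hM).2 V hV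
    haveI : IsNoetherianRing Γ(Y, V) := IsLocallyNoetherian.component_noetherian ⟨V, hV⟩
    obtain ⟨r, hr, hrQ⟩ :=
      Submodule.exists_sub_one_mem_and_smul_eq_zero_of_fg_of_le_smul I _ Module.Finite.fg_top hsp
    -- the annihilator is small
    let K : Ideal Γ(Y, V) := LinearMap.ker (LinearMap.toSpanSingleton Γ(Y, V) Γ(M, V) m)
    have hK : K ≤ I • K := fun a ha => by
      have ham : a • m = 0 := ha
      have hmem : a ∈ (⨅ n : ℕ, I ^ n • ⊤ : Submodule Γ(Y, V) Γ(Y, V)) := by
        refine Submodule.mem_iInf _ |>.2 fun n => ?_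
        rcases n with _ | n
        · simp
        rw [smul_eq_mul, Ideal.mul_top, ← hker n, RingHom.mem_ker]
        refine ((hgen n).bijective le_rfl).1 ?_
        beta_reduce
        rw [H10Coh.mres_self, zero_smul, ← OmegaSh.pullSect_smul, ham, map_zero]
      obtain ⟨c, hc⟩ := (I.mem_iInf_smul_pow_eq_bot_iff a).1 hmem
      rw [← hc]
      exact Submodule.smul_mem_smul c.2 ha
    obtain ⟨r', hr', hrK⟩ :=
      Submodule.exists_sub_one_mem_and_smul_eq_zero_of_fg_of_le_smul I K (IsNoetherian.noetherian _) hK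
    have hone : ∀ s : Γ(Y, V), s - 1 ∈ I → (e 0).app V s = 1 := fun s hs => by
      have : s - 1 ∈ RingHom.ker ((e 0).app V).hom := by rwa [hker 0, zero_add, pow_one]
      rw [RingHom.mem_ker, map_sub, map_one, sub_eq_zero] at this
      exact this
    refine ⟨Y.basicOpen (r * r'), _, ?_, isGen_basicOpen_of_smul M hV m (r * r') (fun σ => ?_) fun a ha => ?_⟩
    · have : x ∈ e 0 ⁻¹ᵁ Y.basicOpen (r * r') := by
        rw [Scheme.preimage_basicOpen, map_mul, hone r hr, hone r' hr', mul_one,
          Scheme.basicOpen_of_isUnit _ isUnit_one]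
        exact hxV
      exact this
    · have h0 : r • σ ∈ Q :=
        (Submodule.Quotient.mk_eq_zero Q).1 ((Submodule.Quotient.mk_smul Q r σ).trans (hrQ (Submodule.Quotient.mk σ) trivial))
      obtain ⟨a, ha⟩ := Submodule.mem_span_singleton.1 h0
      exact ⟨r' * a, by rw [mul_comm r r', mul_smul, ← ha, mul_smul]⟩
    · have := hrK a ha
      rw [smul_eq_mul] at this
      rw [mul_assoc, this, mul_zero]
  choose V m hxV hgen using key
  have htop : (⨆ x, V x) = ⊤ :=
    eq_top_of_range_subset e hpb _ (by rintro _ ⟨x, rfl⟩; exact Opens.mem_iSup.2 ⟨x, hxV x⟩)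
  refine isInvertible_of_gen fun y => ?_
  obtain ⟨x, hx⟩ := Opens.mem_iSup.1 (htop.ge (Opens.mem_top y))
  exact ⟨V x, m x, hx, hgen x⟩

end Groth.Agent.LeadGE
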