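import Groth.Agent.LeadGE.System
import Groth.Agent.H24Formal.HomComplete
import Groth.Agent.H24Formal.Completion
import Groth.Agent.LeadFF.ProperSupp

/-!
# The existence theorem in the presence of an ample invertible module
-/

set_option autoImplicit false
set_option linter.style.haveILetI false
set_option linter.unusedSectionVars false

noncomputable section

universe u

open CategoryTheory CategoryTheory.Limits AlgebraicGeometry Opposite TopologicalSpace

namespace Groth.Agent.LeadGE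

open Groth.Agent.LeadUV

attribute [local instance 10000] H10Coh.hasSheafifyAb H10Coh.hasWeakSheafifyAb H10Coh.hasExtAb H10Coh.enoughInjAb

variable {A : Type u} [CommRing A] {X : Scheme.{u}} [X.Over (Spec (CommRingCat.of A))] {I : Ideal A}

/-- A compatible family of maps gives a map from the completion. -/
def ofCompat {M : X.Modules} {G : ℕᵒᵖ ⥤ X.Modules} (hG : Formal.IsCohFormal I G)
    (f : ∀ n, M ⟶ G.obj (op n)) (hf : ∀ n, f (n + 1) ≫ tr G n = f n) : Formal.completion I M ⟶ G :=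
  NatTrans.ofOpSequence
    (fun n => cokernel.desc _ (f n) (H24Formal.smulFamily_comp_eq_zero (f n) (hG.2.1 n))) fun n => by
      rw [H24Formal.completion_map_succ]
      refine coequalizer.hom_ext ?_
      change Formal.modPowπ I (n + 1 + 1) M ≫ _ ≫ _ = Formal.modPowπ I (n + 1 + 1) M ≫ _ ≫ _
      erw [← Category.assoc, Formal.modPowπ_trans, cokernel.π_desc, cokernel.π_desc_assoc]
      exact (hf n).symm

theorem π_ofCompat {M : X.Modules} {G : ℕᵒᵖ ⥤ X.Modules} (hG : Formal.IsCohFormal I G)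
    (f : ∀ n, M ⟶ G.obj (op n)) (hf : ∀ n, f (n + 1) ≫ tr G n = f n) (n : ℕ) :
    Formal.modPowπ I (n + 1) M ≫ (ofCompat hG f hf).app (op n) = f n :=
  cokernel.π_desc _ _ _

theorem π_tr (M : X.Modules) (n : ℕ) :
    Formal.modPowπ I (n + 1 + 1) M ≫ tr (Formal.completion I M) n = Formal.modPowπ I (n + 1) M := by
  rw [tr, H24Formal.completion_map_succ]
  exact Formal.modPowπ_trans I (n + 1) M

/-- A coproduct of epimorphisms. -/
theorem epi_sigmaMap {ι : Type u} {M N : X.Modules} (f : M ⟶ N) [Epi f] :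
    Epi (Limits.Sigma.map fun _ : ι => f) :=
  ⟨fun a b h => Sigma.hom_ext _ _ fun i => by
    rw [← cancel_epi f, ← Sigma.ι_map_assoc (fun _ : ι => f) i, ← Sigma.ι_map_assoc (fun _ : ι => f) i, h]⟩

section kernels

variable {G : ℕᵒᵖ ⥤ X.Modules} {C : ℕᵒᵖ ⥤ X.Modules} (φ : C ⟶ G)

theorem tr_natural (n : ℕ) : tr C n ≫ φ.app (op n) = φ.app (op (n + 1)) ≫ tr G n :=
  φ.naturality _

theorem epi_kernelMap (hG : Formal.IsCohFormal I G) (hC : Formal.IsCohFormal I C)
    (hφ : ∀ n, Epi (φ.app (op n))) (n : ℕ) :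
    Epi (kernel.map (φ.app (op (n + 1))) (φ.app (op n)) (tr C n) (tr G n) (tr_natural φ n).symm) := by
  rw [epi_iff_surjective_up_to_refinements]
  intro T x
  haveI : Epi (tr C n) := (H24Formal.epi_and_factor hC (Nat.le_succ n)).1
  obtain ⟨T₁, q₁, hq₁, y, hy⟩ := surjective_up_to_refinements_of_epi (tr C n) (x ≫ kernel.ι (φ.app (op n)))
  obtain ⟨hz, hiso⟩ := hG.2.2 n
  haveI := hiso
  let sF := Formal.smulFamily (I ^ (n + 1)) (G.obj (op (n + 1)))
  have h1 : (y ≫ φ.app (op (n + 1))) ≫ cokernel.π sF = 0 := by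
    rw [← cancel_mono (cokernel.desc _ _ hz), Category.assoc, cokernel.π_desc, Limits.zero_comp, Category.assoc]
    refine (congrArg (y ≫ ·) (tr_natural φ n).symm).trans ?_
    rw [← Category.assoc, ← hy, Category.assoc, Category.assoc, kernel.condition, comp_zero, comp_zero]
  have hex : (ShortComplex.mk sF (cokernel.π sF) (cokernel.condition sF)).Exact := ShortComplex.exact_cokernel _
  obtain ⟨T₂, q₂, hq₂, w, hw⟩ := hex.exact_up_to_refinements (y ≫ φ.app (op (n + 1))) h1
  haveI := hφ (n + 1)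
  haveI := epi_sigmaMap (ι := (I ^ (n + 1) : Ideal A)) (φ.app (op (n + 1)))
  obtain ⟨T₃, q₃, hq₃, v, hv⟩ := surjective_up_to_refinements_of_epi
    (Limits.Sigma.map fun _ : (I ^ (n + 1) : Ideal A) => φ.app (op (n + 1))) w
  have hcomm : Formal.smulFamily (I ^ (n + 1)) (C.obj (op (n + 1))) ≫ φ.app (op (n + 1)) =
      (Limits.Sigma.map fun _ : (I ^ (n + 1) : Ideal A) => φ.app (op (n + 1))) ≫ sF := by
    refine Sigma.hom_ext _ _ fun a => ?_
    simp only [sF, Formal.smulFamily, Sigma.ι_desc_assoc, Sigma.ι_map_assoc, Sigma.ι_desc]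
    exact H24Formal.smulMod_comm _ _
  have hkill : Formal.smulFamily (I ^ (n + 1)) (C.obj (op (n + 1))) ≫ tr C n = 0 :=
    H24Formal.smulFamily_comp_eq_zero _ (hC.2.1 n)
  let y' := q₃ ≫ q₂ ≫ y - v ≫ Formal.smulFamily (I ^ (n + 1)) (C.obj (op (n + 1)))
  have hy'φ : y' ≫ φ.app (op (n + 1)) = 0 := by
    rw [Preadditive.sub_comp, sub_eq_zero, Category.assoc, Category.assoc, Category.assoc]
    refine (congrArg (q₃ ≫ ·) hw).trans ?_
    rw [← Category.assoc q₃ w]
    exact (congrArg (· ≫ sF) hv).trans ((Category.assoc _ _ _).trans (congrArg (v ≫ ·) hcomm.symm))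
  refine ⟨T₃, q₃ ≫ q₂ ≫ q₁, ?_, kernel.lift _ y' hy'φ, ?_⟩
  · haveI := hq₁; haveI := hq₂; haveI := hq₃
    infer_instance
  · rw [← cancel_mono (kernel.ι (φ.app (op n))), Category.assoc, Category.assoc (kernel.lift _ _ _),
      kernel.lift_ι, ← Category.assoc (kernel.lift _ _ _), kernel.lift_ι, Preadditive.sub_comp,
      Category.assoc v, hkill, comp_zero, sub_zero, Category.assoc, Category.assoc, Category.assoc,
      Category.assoc, hy]

/-- The kernels of a levelwise surjective map form a subsystem. -/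
def kernelSys [IsLocallyNoetherian X] (hG : Formal.IsCohFormal I G) (hC : Formal.IsCohFormal I C)
    (hφ : ∀ n, Epi (φ.app (op n))) : SubSys C where
  K n := kernel (φ.app (op n))
  coh n := H10Coh.isCoh_kernel _ (hC.1 n) (hG.1 n).1
  j n := kernel.ι _
  mono_j _ := inferInstance
  τ n := kernel.map (φ.app (op (n + 1))) (φ.app (op n)) (tr C n) (tr G n) (tr_natural φ n).symm
  epi_τ := epi_kernelMap φ hG hC hφ
  comm _ := kernel.lift_ι _ _ _

end kernels

variable [IsNoetherianRing A] [IsAdicComplete I A] [IsProper (X ↘ Spec (CommRingCat.of A))]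

/-- Every coherent formal module is the completion of a coherent module. -/
theorem exists_algebraization {L : X.Modules} (hA : CohB1.IsAmple L) {G : ℕᵒᵖ ⥤ X.Modules}
    (hG : Formal.IsCohFormal I G) :
    ∃ M : X.Modules, Coh.IsCoh M ∧ Nonempty (Formal.completion I M ≅ G) := by
  haveI : IsLocallyNoetherian X := LocallyOfFiniteType.isLocallyNoetherian (X ↘ Spec (CommRingCat.of A))
  haveI : CompactSpace X := QuasiCompact.compactSpace_of_compactSpace (X ↘ Spec (CommRingCat.of A))
  haveI : IsNoetherian X := {}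
  obtain ⟨E, hE, s, hs, hse⟩ := (SubSys.whole hG).exists_gen hG hA
  change ∀ n, E ⟶ G.obj (op n) at s
  change ∀ n, s (n + 1) ≫ tr G n = s n at hs
  let φ := ofCompat hG s hs
  have hπφ : ∀ n, Formal.modPowπ I (n + 1) E ≫ φ.app (op n) = s n := π_ofCompat hG s hs
  have hφ : ∀ n, Epi (φ.app (op n)) := fun n => by
    haveI : Epi (Formal.modPowπ I (n + 1) E ≫ φ.app (op n)) := (π_ofCompat hG s hs n).symm ▸ hse n
    exact epi_of_epi (Formal.modPowπ I (n + 1) E) _
  have hC := H24Formal.isCohFormal_completion I hE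
  obtain ⟨E', hE', s', hs', hse'⟩ := (kernelSys φ hG hC hφ).exists_gen hC hA
  change ∀ n, E' ⟶ kernel (φ.app (op n)) at s'
  change ∀ n, Epi (s' n) at hse'
  have hs'' : ∀ n, (s' (n + 1) ≫ kernel.ι (φ.app (op (n + 1)))) ≫ tr (Formal.completion I E) n =
      s' n ≫ kernel.ι (φ.app (op n)) := fun n => by
    exact ((Category.assoc _ _ _).trans ((congrArg (s' (n + 1) ≫ ·) ((kernelSys φ hG hC hφ).comm n).symm).trans
      (Category.assoc _ _ _).symm)).trans (congrArg (· ≫ kernel.ι (φ.app (op n))) (hs' n))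
  let ψ := ofCompat hC (fun n => s' n ≫ kernel.ι (φ.app (op n))) hs''
  have hsupp : ClSub.IsProperOver (X ↘ Spec (CommRingCat.of A)) (CohB1.support E' ∩ CohB1.support E) :=
    LeadProper.isProperOver_mono (LeadFF.properCoh_of_isProper _ hE').supp
      ((LeadProper.isClosed_support E' hE'.1 hE'.2).inter (LeadProper.isClosed_support E hE.1 hE.2))
      Set.inter_subset_left
  obtain ⟨φ₀, hφ₀, -⟩ := H24Formal.HomC.existsUnique_hom I hE' hE hsupp ψ
  have hrel : ∀ n, φ₀ ≫ Formal.modPowπ I (n + 1) E = s' n ≫ kernel.ι (φ.app (op n)) := fun n => by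
    rw [← hφ₀ n]
    exact π_ofCompat hC _ hs'' n
  have hzero : ∀ n, φ₀ ≫ s n = 0 := fun n => by
    rw [← hπφ n]
    exact ((Category.assoc _ _ _).symm.trans (congrArg (· ≫ φ.app (op n)) (hrel n))).trans
      ((Category.assoc _ _ _).trans ((congrArg (s' n ≫ ·) (kernel.condition _)).trans comp_zero))
  let f : ∀ n, cokernel φ₀ ⟶ G.obj (op n) := fun n => cokernel.desc φ₀ (s n) (hzero n)
  have hf : ∀ n, f (n + 1) ≫ tr G n = f n := fun n => by
    rw [← cancel_epi (cokernel.π φ₀), ← Category.assoc, cokernel.π_desc, cokernel.π_desc]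
    exact hs n
  let η := ofCompat hG f hf
  haveI hiso : ∀ j, IsIso (η.app j) := fun ⟨n⟩ => by
    let r : (Formal.completion I E).obj (op n) ⟶ Formal.modPow I (n + 1) (cokernel φ₀) :=
      cokernel.desc _ (cokernel.π φ₀ ≫ Formal.modPowπ I (n + 1) (cokernel φ₀))
        (H24Formal.smulFamily_comp_eq_zero _ (H24Formal.killedBy_modPow I (n + 1) (cokernel φ₀)))
    have hr : Formal.modPowπ I (n + 1) E ≫ r = cokernel.π φ₀ ≫ Formal.modPowπ I (n + 1) (cokernel φ₀) :=
      cokernel.π_desc _ _ _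
    haveI := hφ n
    have hker : kernel.ι (φ.app (op n)) ≫ r = 0 := by
      haveI := hse' n
      rw [← cancel_epi (s' n), comp_zero, ← Category.assoc]
      refine (congrArg (· ≫ r) (hrel n).symm).trans ?_
      exact (Category.assoc _ _ _).trans ((congrArg (φ₀ ≫ ·) hr).trans
        ((cokernel.condition_assoc φ₀ _).trans Limits.zero_comp))
    refine ⟨Abelian.epiDesc (φ.app (op n)) r hker, ?_, ?_⟩
    · refine coequalizer.hom_ext ?_
      change Formal.modPowπ I (n + 1) (cokernel φ₀) ≫ _ ≫ _ = Formal.modPowπ I (n + 1) (cokernel φ₀) ≫ 𝟙 _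
      rw [← Category.assoc, π_ofCompat, Category.comp_id, ← cancel_epi (cokernel.π φ₀), ← Category.assoc,
        cokernel.π_desc, ← hr, ← hπφ n]
      exact (Category.assoc _ _ _).trans (congrArg (Formal.modPowπ I (n + 1) E ≫ ·) (@Abelian.comp_epiDesc _ _ _ _ _ (φ.app (op n)) (hφ n) _ r hker))
    · rw [← cancel_epi (φ.app (op n)), ← Category.assoc, Abelian.comp_epiDesc, Category.comp_id]
      refine coequalizer.hom_ext ?_
      change Formal.modPowπ I (n + 1) E ≫ _ ≫ _ = Formal.modPowπ I (n + 1) E ≫ _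
      refine ((Category.assoc _ _ _).symm.trans (congrArg (· ≫ η.app (op n)) hr)).trans ?_
      refine ((Category.assoc _ _ _).trans (congrArg (cokernel.π φ₀ ≫ ·) (π_ofCompat hG f hf n))).trans ?_
      exact (cokernel.π_desc _ _ _).trans (hπφ n).symm
  haveI : IsIso η := NatIso.isIso_of_isIso_app η
  exact ⟨cokernel φ₀, H10Coh.isCoh_cokernel φ₀ hE'.1 hE, ⟨asIso η⟩⟩

end Groth.Agent.LeadGE
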