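import Groth.Agent.H24FSch.ModSysPush
import Groth.Agent.LeadUV.AdicBase
import Groth.Agent.H11Ample.RelQuasiAffine
import Groth.Agent.H24Formal.Completion

/-!
# Direct images of an adic system along closed immersions into a scheme over the base
-/

set_option autoImplicit false
set_option linter.style.haveILetI false
set_option linter.unusedSectionVars false

noncomputable section

universe u

open CategoryTheory CategoryTheory.Limits AlgebraicGeometry Opposite TopologicalSpace
open Groth.Agent.H11Tilde Groth.Agent.H11Ample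

namespace Groth.Agent.LeadGE

variable {A : Type u} [CommRing A] {X : Scheme.{u}} [X.Over (Spec (CommRingCat.of A))] {J : Ideal A}

/-- A morphism factoring through a thickening of the base kills the constants in the power. -/
theorem app_scalA_eq_zero {Z : Scheme.{u}} (f : Z ⟶ X) {n : ℕ}
    (q : Z ⟶ Spec (CommRingCat.of (A ⧸ J ^ (n + 1))))
    (hf : f ≫ (X ↘ Spec (CommRingCat.of A)) = q ≫ CohB1.specQuot J n) (W : X.Opens) {a : A}
    (ha : a ∈ J ^ (n + 1)) : f.app W (H24Formal.scalA A W a) = 0 := by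
  have h0 : f.appTop (Coh.toGlobal (X ↘ Spec (CommRingCat.of A)) a) = 0 := by
    show f.appTop ((X ↘ Spec (CommRingCat.of A)).appTop ((Scheme.ΓSpecIso (CommRingCat.of A)).inv a)) = 0
    rw [← CommRingCat.comp_apply (X ↘ Spec (CommRingCat.of A)).appTop, ← Scheme.Hom.comp_appTop, hf,
      Scheme.Hom.comp_appTop, CommRingCat.comp_apply]
    have h := ConcreteCategory.congr_hom
      (Scheme.ΓSpecIso_inv_naturality (CommRingCat.ofHom (Ideal.Quotient.mk (J ^ (n + 1))))) a
    refine (congrArg q.appTop h.symm).trans ?_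
    show q.appTop ((Scheme.ΓSpecIso _).inv (Ideal.Quotient.mk (J ^ (n + 1)) a)) = 0
    rw [Ideal.Quotient.eq_zero_iff_mem.2 ha, map_zero, map_zero]
  show f.app W (X.presheaf.map _ (Coh.toGlobal (X ↘ Spec (CommRingCat.of A)) a)) = 0
  rw [← ConcreteCategory.comp_apply, Scheme.Hom.naturality, ConcreteCategory.comp_apply]
  erw [h0]
  exact map_zero _

variable {Xs : ℕ → Scheme.{u}} {i : ∀ n, Xs n ⟶ Xs (n + 1)}
  {p : (k : ℕ) → (Xs k ⟶ Spec (CommRingCat.of (A ⧸ J ^ (k + 1))))}
  (hcart : ∀ k, IsPullback (i k) (p k) (p (k + 1)) (CohB1.specQuotTrans J k))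
  (h : ∀ n, Xs n ⟶ X) [∀ n, IsClosedImmersion (h n)]
  (hi : ∀ n, i n ≫ h (n + 1) = h n)
  (hb : ∀ n, h n ≫ (X ↘ Spec (CommRingCat.of A)) = p n ≫ CohB1.specQuot J n)

include hb in
theorem killedBy_push (n : ℕ) (F : (Xs n).Modules) :
    Formal.KilledBy (J ^ (n + 1)) ((Scheme.Modules.pushforward (h n)).obj F) := fun a ha => by
  refine Scheme.Modules.hom_ext _ _ fun W => ConcreteCategory.hom_ext _ _ fun s => ?_
  show (h n).app W (H24Formal.scalA A W a) • (show Γ(F, h n ⁻¹ᵁ W) from s) = 0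
  rw [app_scalA_eq_zero (h n) (p n) (hb n) W ha, zero_smul]

include hb in
theorem sc_eq_app (n : ℕ) (W : X.Opens) (a : A) :
    (h n).app W (H24Formal.scalA A W a) = LeadUV.sc J p n (h n ⁻¹ᵁ W) a := by
  have h0 : (h n).appTop (Coh.toGlobal (X ↘ Spec (CommRingCat.of A)) a) = LeadUV.gl J p n a := by
    show (h n).appTop ((X ↘ Spec (CommRingCat.of A)).appTop _) = (p n ≫ CohB1.specQuot J n).appTop _
    rw [← hb n, Scheme.Hom.comp_appTop (h n)]
    rfl
  show (h n).app W (X.presheaf.map _ (Coh.toGlobal (X ↘ Spec (CommRingCat.of A)) a)) = _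
  rw [← ConcreteCategory.comp_apply, Scheme.Hom.naturality]
  exact congrArg _ h0

include hcart hb in
theorem isCohFormal_push (F : ∀ n, (Xs n).Modules) (hF : ∀ n, Coh.IsCoh (F n))
    (e : ∀ n, (Scheme.Modules.pullback (i n)).obj (F (n + 1)) ≅ F n) :
    Formal.IsCohFormal J (H24FSch.pushSys i h hi F e) := by
  refine ⟨fun n => H24FSch.isCoh_pushforward_of_isClosedImmersion (h n) (hF n),
    fun n => killedBy_push h hb n (F n), fun n => ?_⟩
  rw [H24FSch.pushSys_map_succ]
  haveI := LeadUV.isClosedImmersion_i J p i hcart n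
  let G := (Scheme.Modules.pushforward (h (n + 1))).obj (F (n + 1))
  let t := H24FSch.pushTrans (i n) (h (n + 1)) (h n) (hi n) (e n)
  have hz : Formal.smulFamily (J ^ (n + 1)) G ≫ t = 0 :=
    H24Formal.smulFamily_comp_eq_zero _ (killedBy_push h hb n (F n))
  refine ⟨hz, ?_⟩
  have hquot : ∀ V : X.Opens, IsAffineOpen V → H17.PullSect.IsQuotOn (i n) (F (n + 1)) (h (n + 1) ⁻¹ᵁ V) :=
    fun V hV => by
      haveI : IsClosedImmersion (i n ∣_ (h (n + 1) ⁻¹ᵁ V)) :=
        IsZariskiLocalAtTarget.restrict (P := @IsClosedImmersion) (f := i n) ‹_› _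
      exact H17.PullSect.isQuotOn_of_isAffineOpen (i n) (F (n + 1)) (hF (n + 1)).1 (hV.preimage _)
  haveI : Epi t := by
    refine H11Tilde.epi_of_locally_surjective _ fun W s x hx => ?_
    obtain ⟨V, hV, hxV, hle⟩ := exists_isAffineOpen_mem_and_subset (U := W) hx
    refine ⟨V, hle, hxV, ?_⟩
    obtain ⟨σ, hσ, hσt⟩ := H24FSch.pushTrans_app (i n) (h (n + 1)) (h n) (hi n) (e n) V
    obtain ⟨z, hz⟩ := hσ.2 (((Scheme.Modules.pushforward (h n)).obj (F n)).presheaf.map (homOfLE hle).op s)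
    obtain ⟨y, rfl⟩ := (hquot V hV).1 z
    exact ⟨y, (hσt y).trans hz⟩
  have hexact : (ShortComplex.mk _ _ hz).Exact := by
    refine H11Tilde.exact_of_locally _ fun W s hs x hx => ?_
    obtain ⟨V, hV, hxV, hle⟩ := exists_isAffineOpen_mem_and_subset (U := W) hx
    have hle' : V ≤ W := hle
    refine ⟨V, hle', hxV, ?_⟩
    let s' : Γ(G, V) := G.presheaf.map (homOfLE hle').op s
    obtain ⟨σ, hσ, hσt⟩ := H24FSch.pushTrans_app (i n) (h (n + 1)) (h n) (hi n) (e n) V
    have hs' : OmegaSh.pullSect (i n) (F (n + 1)) (h (n + 1) ⁻¹ᵁ V) s' = 0 := by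
      refine hσ.1 ((hσt s').symm.trans ?_)
      refine ((H11Tilde.app_map_apply t hle' s).trans ((congrArg _ hs).trans (map_zero _))).trans (map_zero σ).symm
    have hmem := (hquot V hV).2 s' hs'
    rw [← Scheme.Hom.ker_apply (i n) ⟨_, hV.preimage (h (n + 1))⟩,
      LeadUV.ker_i_ideal J p i hcart n ⟨_, hV.preimage (h (n + 1))⟩] at hmem
    let P : Γ(G, V) → Prop := fun q => ∃ p, (Formal.smulFamily (J ^ (n + 1)) G).app V p = q
    have Padd : ∀ q q', P q → P q' → P (q + q') := by
      rintro _ _ ⟨p, rfl⟩ ⟨p', rfl⟩; exact ⟨p + p', map_add _ p p'⟩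
    have hP : ∀ r₀ ∈ (J ^ (n + 1)).map (LeadUV.sc J p (n + 1) (h (n + 1) ⁻¹ᵁ V)),
        ∀ y : Γ(F (n + 1), h (n + 1) ⁻¹ᵁ V), P (r₀ • y) := by
      intro r₀ hr
      induction hr using Submodule.span_induction with
      | mem r hr =>
        obtain ⟨b, hb', rfl⟩ := hr
        intro y
        refine ⟨(Sigma.ι (fun _ : (J ^ (n + 1) : Ideal A) => G) ⟨b, hb'⟩).app V y, ?_⟩
        refine (congr($(congrArg (fun k => Scheme.Modules.Hom.app k V)
            (Sigma.ι_desc (fun a : (J ^ (n + 1) : Ideal A) => Formal.smulMod A G (a : A)) ⟨b, hb'⟩)) y)).trans ?_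
        show (h (n + 1)).app V (H24Formal.scalA A V b) • y = _
        rw [sc_eq_app h hb]
      | zero => intro y; exact ⟨0, by rw [zero_smul]; exact map_zero _⟩
      | add r r' _ _ h h' => intro y; rw [add_smul]; exact Padd _ _ (h y) (h' y)
      | smul c r _ h' =>
        intro y
        obtain ⟨c', rfl⟩ := (h (n + 1)).app_surjective V hV c
        obtain ⟨q, hq⟩ := h' y
        refine ⟨c' • q, (Scheme.Modules.Hom.app_smul _ _ _).trans ?_⟩
        rw [smul_eq_mul, mul_smul, hq]
        rfl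
    exact Submodule.smul_induction_on (p := fun (q : Γ(F (n + 1), h (n + 1) ⁻¹ᵁ V)) => P q) hmem
      (fun r hr y _ => hP r hr y) (fun q q' h h' => Padd _ _ h h')
  have h1 : Mono (cokernel.desc _ t hz) := (ShortComplex.exact_iff_mono_cokernel_desc _).mp hexact
  have h2 : Epi (cokernel.desc _ t hz) := epi_of_epi_fac (cokernel.π_desc _ _ hz)
  exact @isIso_of_mono_of_epi _ _ _ _ _ (cokernel.desc _ t hz) h1 h2

/-- The trivialisation of a pulled back structure module carrying one to one. -/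
theorem exists_unitIso {Z W : Scheme.{u}} (g : Z ⟶ W) :
    ∃ φ : (Scheme.Modules.pullback g).obj (Coh.structureModule W) ≅ Coh.structureModule Z,
      φ.hom.app ⊤ (pullTop (L := Coh.structureModule W) g (one ⊤)) = one ⊤ := by
  let e : Γ((Scheme.Modules.pullback g).obj (Coh.structureModule W), (⊤ : Z.Opens)) :=
    pullTop (L := Coh.structureModule W) g (one ⊤)
  have he : IsGen _ e := IsGen.pullSect g (isGen_one (⊤ : W.Opens))
  obtain ⟨φ, hφ⟩ := exists_iso_of_gen (fun _ : PUnit.{1} => (⊤ : Z.Opens)) (fun _ => ⟨⟨⟩, trivial⟩)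
    (fun _ => e) (fun _ => he) (fun _ => one ⊤) (fun _ => isGen_one ⊤) fun _ _ w hw => by
      have := ((he.res (inf_le_right : (⊤ : Z.Opens) ⊓ ⊤ ≤ ⊤)).bijective le_rfl).1
        (a₁ := (1 : Γ(Z, ⊤ ⊓ ⊤))) (a₂ := w) (by beta_reduce; rw [H10Coh.mres_self, one_smul]; exact hw)
      rw [← this, one_smul]
  exact ⟨φ, hφ ⟨⟩⟩

theorem pushTrans_one {U V : Scheme.{u}} (g : U ⟶ V) (h : V ⟶ X) (f : U ⟶ X) (hf : g ≫ h = f)
    (e : (Scheme.Modules.pullback g).obj (Coh.structureModule V) ≅ Coh.structureModule U)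
    (he : e.hom.app ⊤ (pullTop (L := Coh.structureModule V) g (one ⊤)) = one ⊤) :
    (H24FSch.pushTrans g h f hf e).app ⊤ (one ⊤) = one ⊤ := by
  subst hf
  exact (congr($(congrArg (fun k => Scheme.Modules.Hom.app k (⊤ : X.Opens))
    (show H24FSch.pushTrans g h (g ≫ h) rfl e = (Scheme.Modules.pushforward h).map
      ((Scheme.Modules.pullbackPushforwardAdjunction g).unit.app (Coh.structureModule V) ≫
        (Scheme.Modules.pushforward g).map e.hom) ≫
      (Scheme.Modules.pushforwardComp g h).hom.app (Coh.structureModule U) from by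
        refine congrArg (_ ≫ ·) ?_
        refine (congrArg ((Scheme.Modules.pushforwardComp g h).hom.app _ ≫ ·) ?_).trans (Category.comp_id _)
        refine Scheme.Modules.hom_ext _ _ fun W => ?_
        rw [Scheme.Modules.pushforwardCongr_hom_app_app]
        exact CategoryTheory.Functor.map_id _ _)) (one ⊤))).trans he

end Groth.Agent.LeadGE
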