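import Groth.Agent.LeadGE.TwistSys
import Groth.Agent.LeadVA.Spread
import Groth.Agent.H24FSch.Sub
import Groth.Agent.H24FSch.Basic
import Groth.Agent.H11Tilde.ProjUPUnique
import Groth.Agent.H24Formal.LimitSections

/-!
# An adic system with an ample bundle embeds into projective space over the base
-/

set_option autoImplicit false
set_option linter.style.haveILetI false
set_option linter.unusedSectionVars false

noncomputable section

universe u

open CategoryTheory CategoryTheory.Limits AlgebraicGeometry Opposite TopologicalSpace CohB1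
open Groth.Agent.H11Tilde Groth.Agent.H11Ample Groth.Agent.H11Proj

namespace Groth.Agent.LeadGE

variable {X Z : Scheme.{u}} {n : ℕ}

/-- The projection to the standard projective space. -/
abbrev pfst' (n : ℕ) (S : Scheme.{u}) : ProjSpaceOver n S ⟶ ProjSpace n (ULift.{u} ℤ) := pullback.fst _ _

/-- Morphisms to projective space with the same coordinates are equal. -/
theorem toPn_ext (r r' : X ⟶ Proj (polyGrading n (ULift.{u} ℤ)))
    (τ : (Scheme.Modules.pullback r).obj (Twist.twistProjSpace n (ULift.{u} ℤ) 1) ≅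
      (Scheme.Modules.pullback r').obj (Twist.twistProjSpace n (ULift.{u} ℤ) 1))
    (hτ : ∀ l, τ.hom.app ⊤ (pullTop r (L := Twist.twistProjSpace n (ULift.{u} ℤ) 1)
      (ProjUP.coord n (ULift.{u} ℤ) l)) =
        pullTop r' (L := Twist.twistProjSpace n (ULift.{u} ℤ) 1) (ProjUP.coord n (ULift.{u} ℤ) l)) :
    r = r' := by
  classical
  let R := ULift.{u} ℤ
  let b := Pi.basisFun R (Fin (n + 1))
  let ι : (Fin (n + 1) → R) →ₗ[R] MvPolynomial (Fin (n + 1)) R := b.constr R MvPolynomial.X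
  have hιX : ∀ i, ι (b i) = MvPolynomial.X i := fun i => b.constr_basis R _ i
  have hι : ∀ m, ι m ∈ polyGrading n R 1 := fun m => by
    rw [← b.sum_repr m, map_sum]
    refine Submodule.sum_mem _ fun i _ => ?_
    rw [map_smul, hιX]
    exact Submodule.smul_mem _ _ (Groth.Agent.H11Ample.X_mem i)
  have hsym := SymmetricAlgebra.IsSymmetricAlgebra.mvPolynomial (R := R) (Fin (n + 1)) b
  refine toProj_ext (polyGrading n R) r hι hsym r' (specULiftZIsTerminal.hom_ext _ _) τ b.span_eq ?_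
  rintro _ ⟨l, rfl⟩
  rw [PnPoints.globalSec_congr (polyGrading n R) (hι (b l)) (Groth.Agent.H11Ample.X_mem l) (hιX l)]
  exact hτ l

/-- Coordinates along a composite. -/
theorem exists_coords_comp (j : Z ⟶ X) (r : X ⟶ Proj (polyGrading n (ULift.{u} ℤ))) {M : X.Modules}
    (τ : (Scheme.Modules.pullback r).obj (Twist.twistProjSpace n (ULift.{u} ℤ) 1) ≅ M)
    (v : Fin (n + 1) → Γ(M, ⊤))
    (hτ : ∀ l, τ.hom.app ⊤ (pullTop r (L := Twist.twistProjSpace n (ULift.{u} ℤ) 1)
      (ProjUP.coord n (ULift.{u} ℤ) l)) = v l) :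
    ∃ τz : (Scheme.Modules.pullback (j ≫ r)).obj (Twist.twistProjSpace n (ULift.{u} ℤ) 1) ≅
        (Scheme.Modules.pullback j).obj M,
      ∀ l, τz.hom.app ⊤ (pullTop (j ≫ r) (L := Twist.twistProjSpace n (ULift.{u} ℤ) 1)
        (ProjUP.coord n (ULift.{u} ℤ) l)) = pullTop j (v l) := by
  let T := Twist.twistProjSpace n (ULift.{u} ℤ) 1
  refine ⟨((Scheme.Modules.pullbackComp j r).app T).symm ≪≫ (Scheme.Modules.pullback j).mapIso τ, fun l => ?_⟩
  show ((Scheme.Modules.pullback j).map τ.hom).app ⊤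
    (((Scheme.Modules.pullbackComp j r).inv.app T).app ⊤ (pullTop (j ≫ r) (L := T) (ProjUP.coord n _ l))) = _
  refine (congrArg (((Scheme.Modules.pullback j).map τ.hom).app ⊤)
    (H17.PullSect.pullSect_comp j r T ⊤ (ProjUP.coord n _ l))).trans ?_
  refine (H17.PullSect.pullSect_natural j τ.hom ⊤ _).symm.trans ?_
  exact congrArg (OmegaSh.pullSect j M ⊤) (hτ l)

variable {A : Type u} [CommRing A] [IsNoetherianRing A] {J : Ideal A} {Xs : ℕ → Scheme.{u}}
  {p : (k : ℕ) → (Xs k ⟶ Spec (CommRingCat.of (A ⧸ J ^ (k + 1))))} {i : (k : ℕ) → (Xs k ⟶ Xs (k + 1))}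
  (hcart : ∀ k, IsPullback (i k) (p k) (p (k + 1)) (CohB1.specQuotTrans J k)) (hp : IsProper (p 0))
  {L : (k : ℕ) → (Xs k).Modules} (hL : ∀ k, PicF.IsInvertible (L k))
  (φ : ∀ k, (Scheme.Modules.pullback (i k)).obj (L (k + 1)) ≅ L k)

open Groth.Agent.LeadUV in
include hcart hp hL φ in
/-- A compatible family of closed immersions into projective space. -/
theorem exists_embedding (ha : CohB1.IsAmple (L 0)) :
    ∃ (N : ℕ) (h : ∀ k, Xs k ⟶ ProjSpaceOver N (Spec (CommRingCat.of A))),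
      (∀ k, IsClosedImmersion (h k)) ∧ (∀ k, i k ≫ h (k + 1) = h k) ∧
      ∀ k, h k ≫ ProjSpaceOver.toBase N (Spec (CommRingCat.of A)) = p k ≫ CohB1.specQuot J k := by
  haveI := hp
  obtain ⟨d₁, hd₁⟩ := exists_surjective_pow hcart hp hL φ ha
  haveI : CompactSpace (Xs 0) := QuasiCompact.compactSpace_of_compactSpace (p 0)
  haveI : (Xs 0).IsSeparated := ⟨by rw [← terminal.comp_from (p 0)]; infer_instance⟩
  obtain ⟨d₂, hd₂⟩ := H11Ample.eventually_isRelVeryAmplePn (p 0) ha
  let d := max d₁ d₂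
  obtain ⟨N, i₀, hi₀, hi₀p, ⟨φ₀⟩⟩ := hd₂ d (le_max_right _ _)
  haveI := hi₀
  haveI hi₀c := isClosedImmersion_of_isImmersion (p 0) i₀ hi₀p
  let T := Twist.twistProjSpace N (ULift.{u} ℤ) 1
  let r₀ : Xs 0 ⟶ Proj (polyGrading N (ULift.{u} ℤ)) := i₀ ≫ pfst' N _
  let τ₀ : (Scheme.Modules.pullback r₀).obj T ≅ CohB1.tensorPow (L 0) d :=
    ((Scheme.Modules.pullbackComp i₀ (pfst' N _)).app _).symm ≪≫ φ₀.symm
  let v₀ : Fin (N + 1) → Γ(CohB1.tensorPow (L 0) d, ⊤) := fun l =>
    τ₀.hom.app ⊤ (pullTop r₀ (L := T) (ProjUP.coord N (ULift.{u} ℤ) l))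
  -- the sections lift compatibly
  let S' := powSys hcart hp hL φ d
  choose v hv₀ hvs using fun l => H24Formal.exists_chain (G := fun k => Γ(CohB1.tensorPow (L k) d, ⊤))
    (fun k => (S'.trans k).app ⊤) (fun k => hd₁ d (le_max_left _ _) k) 0 (v₀ l)
  let e := fun k => powIso hL φ d k
  have hvs' : ∀ l k, (e k).hom.app ⊤ (pullTop (i k) (v l (k + 1))) = v l k := hvs
  have hgen : ∀ k (x : Xs k), ∃ l, x ∈ gen (CohB1.tensorPow (L k) d) (v l k) := by
    intro k
    induction k with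
    | zero =>
      intro x
      obtain ⟨hpre, -⟩ := pn_sections r₀ τ₀ v₀ fun _ => rfl
      obtain ⟨l, hl⟩ := (chartsOfClosedImmersion i₀).cover x
      exact ⟨l, by rw [hv₀, hpre l]; exact hl⟩
    | succ k ih =>
      intro x
      haveI : Surjective (i k) := by
        haveI : Surjective (jj i (k + 1)) := surjective_jj J p i hcart (k + 1)
        exact ⟨fun y => let ⟨z, hz⟩ := (jj i (k + 1)).surjective y; ⟨jj i k z, hz⟩⟩
      obtain ⟨z, rfl⟩ := (i k).surjective x
      obtain ⟨l, hl⟩ := ih z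
      refine ⟨l, ?_⟩
      rw [← hvs' l k, gen_iso] at hl
      have h := gen_smul_pullSect (i k) (isInvertible_tensorPow (hL (k + 1)) d) (v l (k + 1))
        (c := 1) isUnit_one
      rw [one_smul] at h
      exact h.le hl
  choose r τ hτ using fun k => exists_toPn' (isInvertible_tensorPow (hL k) d) (fun l => v l k) (hgen k)
  have hcomp : ∀ k, i k ≫ r (k + 1) = r k := by
    intro k
    obtain ⟨τz, hτz⟩ := exists_coords_comp (i k) (r (k + 1)) (τ (k + 1)) _ (hτ (k + 1))
    refine toPn_ext _ _ (τz ≪≫ e k ≪≫ (τ k).symm) fun l => ?_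
    show (τ k).inv.app ⊤ ((e k).hom.app ⊤ (τz.hom.app ⊤ _)) = _
    refine ((congrArg (fun z => (τ k).inv.app ⊤ ((e k).hom.app ⊤ z)) (hτz l)).trans
      ((congrArg ((τ k).inv.app ⊤) (hvs' l k)).trans (congrArg ((τ k).inv.app ⊤) (hτ k l).symm))).trans ?_
    show ((τ k).hom ≫ (τ k).inv).app ⊤ _ = _
    rw [Iso.hom_inv_id]
    rfl
  have hr₀ : r 0 = r₀ := by
    refine toPn_ext _ _ (τ 0 ≪≫ τ₀.symm) fun l => ?_
    show τ₀.inv.app ⊤ ((τ 0).hom.app ⊤ _) = _
    refine (congrArg (τ₀.inv.app ⊤) ((hτ 0 l).trans (hv₀ l))).trans ?_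
    show (τ₀.hom ≫ τ₀.inv).app ⊤ _ = _
    rw [Iso.hom_inv_id]
    rfl
  have hjr : ∀ k, jj i k ≫ r k = r 0 := by
    intro k
    induction k with
    | zero => exact Category.id_comp _
    | succ k ih => rw [show jj i (k + 1) = jj i k ≫ i k from rfl, Category.assoc, hcomp, ih]
  let h' : ∀ k, Xs k ⟶ ProjSpaceOver N (Spec (CommRingCat.of (A ⧸ J ^ (k + 1)))) := fun k =>
    pullback.lift (r k) (p k) (specULiftZIsTerminal.hom_ext _ _)
  have h'₁ : ∀ k, h' k ≫ pfst' N _ = r k := fun k => pullback.lift_fst _ _ _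
  have h'₂ : ∀ k, h' k ≫ ProjSpaceOver.toBase N _ = p k := fun k => pullback.lift_snd _ _ _
  have h'0 : h' 0 = i₀ :=
    pullback.hom_ext ((h'₁ 0).trans hr₀) ((h'₂ 0).trans hi₀p.symm)
  have hcl : ∀ k, IsClosedImmersion (h' k) := fun k => by
    have hsq : IsPullback (jj i k) (h' 0) (h' k) (LeadVA.projMap N (Spec.map (CommRingCat.ofHom (qq J k)))) :=
      LeadVA.isPullback_projMap_lift (isPullback_jj J p i hcart k) (h'₂ k) (h'₂ 0)
        ((h'₁ 0).trans ((hjr k).symm.trans (congrArg (jj i k ≫ ·) (h'₁ k).symm)))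
    have sqπ := LeadVA.isPullback_projMap N (Spec.map (CommRingCat.ofHom (qq J k)))
    haveI : IsClosedImmersion (Spec.map (CommRingCat.ofHom (qq J k))) :=
      IsClosedImmersion.spec_of_surjective _
        (Ideal.Quotient.factor_surjective (Ideal.pow_le_pow_right (Nat.succ_le_succ (Nat.zero_le k))))
    haveI := surjective_specMap_qq J p i hcart k
    haveI : IsClosedImmersion (LeadVA.projMap N (Spec.map (CommRingCat.ofHom (qq J k)))) :=
      MorphismProperty.of_isPullback sqπ.flip ‹IsClosedImmersion (Spec.map (CommRingCat.ofHom (qq J k)))›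
    haveI : Surjective (LeadVA.projMap N (Spec.map (CommRingCat.ofHom (qq J k)))) :=
      MorphismProperty.of_isPullback sqπ.flip ‹Surjective (Spec.map (CommRingCat.ofHom (qq J k)))›
    haveI := H27Weil.isProper_toBase N (Spec (CommRingCat.of (A ⧸ J ^ (k + 1))))
    haveI : IsLocallyNoetherian (ProjSpaceOver N (Spec (CommRingCat.of (A ⧸ J ^ (k + 1))))) :=
      LocallyOfFiniteType.isLocallyNoetherian (ProjSpaceOver.toBase N _)
    haveI : IsClosedImmersion (h' 0) := h'0 ▸ hi₀c
    exact H24FSch.isClosedImmersion_of_thickening (H24FSch.idealFT_of_isLocallyNoetherian _) hsq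
  refine ⟨N, fun k => h' k ≫ LeadVA.projMap N (CohB1.specQuot J k), fun k => ?_, fun k => ?_, fun k => ?_⟩
  · haveI := hcl k
    haveI : IsClosedImmersion (CohB1.specQuot J k) := IsClosedImmersion.spec_of_surjective _ Ideal.Quotient.mk_surjective
    haveI : IsClosedImmersion (LeadVA.projMap N (CohB1.specQuot J k)) :=
      MorphismProperty.of_isPullback (LeadVA.isPullback_projMap N (CohB1.specQuot J k)).flip
        ‹IsClosedImmersion (CohB1.specQuot J k)›
    infer_instance
  · refine LeadVA.hom_ext_toProj ?_ ?_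
    · rw [Category.assoc, Category.assoc, Category.assoc, LeadVA.projMap_fst, LeadVA.projMap_fst]
      exact ((congrArg (i k ≫ ·) (h'₁ (k + 1))).trans (hcomp k)).trans (h'₁ k).symm
    · rw [Category.assoc, Category.assoc, Category.assoc, LeadVA.projMap_toBase, LeadVA.projMap_toBase,
        ← Category.assoc (h' (k + 1)), h'₂, ← Category.assoc (h' k), h'₂, ← Category.assoc, (hcart k).w,
        Category.assoc, CohB1.specQuotTrans_specQuot]
  · rw [Category.assoc, LeadVA.projMap_toBase, ← Category.assoc, h'₂]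

end Groth.Agent.LeadGE
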