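import Groth.Agent.LeadGE.Line
import Groth.Agent.LeadUV.Adic
import Groth.Agent.LeadFF.Limit
import Groth.Agent.H10Coh.AmpleCriterion
import Groth.Agent.H10Coh.SerreVanishing2
import Groth.Agent.H16Derived.KFlat.SheafAssoc

/-!
# An algebraization of a system with ample zeroth level is ample
-/

set_option autoImplicit false
set_option linter.style.haveILetI false
set_option linter.unusedSectionVars false

noncomputable section

universe u

open CategoryTheory CategoryTheory.Limits AlgebraicGeometry Opposite TopologicalSpace CohB1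
open Groth.Agent.H11Tilde Groth.Agent.H11Ample

namespace Groth.Agent.LeadGE

open Groth.Agent.LeadUV Groth.Agent.H10Coh Groth.Agent.H10Coh.Tw

attribute [local instance 10000] H10Coh.hasSheafifyAb H10Coh.hasWeakSheafifyAb H10Coh.hasExtAb H10Coh.enoughInjAb

variable {A : Type u} [CommRing A] {J : Ideal A}
  {Y : Scheme.{u}} [Y.Over (Spec (CommRingCat.of A))]

/-- The truncation of a module is the direct image of its restriction to the thickening. -/
theorem nonempty_modPow_iso_push {Z : Scheme.{u}} (h : Z ⟶ Y) [IsClosedImmersion h] (n : ℕ)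
    (hker : ∀ W : Y.Opens, IsAffineOpen W → RingHom.ker (h.app W).hom = (J ^ n).map (H24Formal.scalA A W))
    [IsLocallyNoetherian Y] {N : Y.Modules} (hN : Coh.IsCoh N) :
    Nonempty (Formal.modPow J n N ≅
      (Scheme.Modules.pushforward h).obj ((Scheme.Modules.pullback h).obj N)) := by
  let adj := Scheme.Modules.pullbackPushforwardAdjunction h
  have hkilled : ∀ a ∈ J ^ n, ∀ (F : Z.Modules), Formal.smulMod A ((Scheme.Modules.pushforward h).obj F) a = 0 := by
    intro a ha F
    refine Scheme.Modules.hom_ext _ _ fun W => ConcreteCategory.hom_ext _ _ fun s => ?_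
    refine eq_of_locally _ _ fun x hx => ?_
    obtain ⟨V, hV, hxV, hle⟩ := exists_isAffineOpen_mem_and_subset (U := W) hx
    have hle' : V ≤ W := hle
    refine ⟨V, hle', hxV, ?_⟩
    rw [← app_map_apply, ← app_map_apply]
    let s' : Γ(F, h ⁻¹ᵁ V) := ((Scheme.Modules.pushforward h).obj F).presheaf.map (homOfLE hle').op s
    show h.app V (H24Formal.scalA A V a) • s' = 0
    have h0 : h.app V (H24Formal.scalA A V a) = 0 := by
      rw [← RingHom.mem_ker, hker V hV]
      exact Ideal.mem_map_of_mem _ ha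
    rw [h0, zero_smul]
  have hz : Formal.smulFamily (J ^ n) N ≫ adj.unit.app N = 0 :=
    H24Formal.smulFamily_comp_eq_zero _ fun a ha => hkilled a ha _
  obtain ⟨u, hu⟩ := CokernelCofork.IsColimit.desc' (cokernelIsCokernel _) (adj.unit.app N) hz
  have hu' : Formal.modPowπ J n N ≫ u = adj.unit.app N := hu
  haveI : Epi ((Scheme.Modules.pullback h).map (Formal.modPowπ J n N)) :=
    (Scheme.Modules.pullback h).map_epi _
  have hspl : (Scheme.Modules.pullback h).map (Formal.modPowπ J n N) ≫ (adj.homEquiv _ _).symm u = 𝟙 _ := by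
    rw [← Adjunction.homEquiv_naturality_left_symm, hu', ← Adjunction.homEquiv_id, Equiv.symm_apply_apply]
  haveI : IsIso ((Scheme.Modules.pullback h).map (Formal.modPowπ J n N)) :=
    ⟨_, hspl, by rw [← cancel_epi ((Scheme.Modules.pullback h).map (Formal.modPowπ J n N)),
      ← Category.assoc, hspl, Category.id_comp, Category.comp_id]⟩
  have hQ := H24Formal.isCoh_modPow J n hN
  haveI := LeadProper.isIso_unit_of_killedByIdeal (Formal.modPow J n N) hQ.1 h (fun W a ha m => by
    rw [Scheme.Hom.ker_apply, hker W.1 W.2] at ha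
    change Γ(Formal.modPow J n N, W.1) at m
    show a • m = 0
    induction ha using Submodule.span_induction with
    | mem c hc =>
      obtain ⟨b, hb, rfl⟩ := hc
      exact congr($(congrArg (fun k => Scheme.Modules.Hom.app k W.1)
        (H24Formal.killedBy_modPow J n N b hb)) m)
    | zero => rw [zero_smul]
    | add c c' _ _ h h' => rw [add_smul, h, h', add_zero]
    | smul r c _ h => rw [smul_eq_mul, mul_smul, h, smul_zero])
  exact ⟨asIso (adj.unit.app (Formal.modPow J n N)) ≪≫ (Scheme.Modules.pushforward h).mapIso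
    (asIso ((Scheme.Modules.pullback h).map (Formal.modPowπ J n N))).symm⟩

variable [IsNoetherianRing A] [IsAdicComplete J A] [IsProper (Y ↘ Spec (CommRingCat.of A))]
  {Xs : ℕ → Scheme.{u}} {p : (k : ℕ) → (Xs k ⟶ Spec (CommRingCat.of (A ⧸ J ^ (k + 1))))}
  {i : (k : ℕ) → (Xs k ⟶ Xs (k + 1))}
  (hcart : ∀ k, IsPullback (i k) (p k) (p (k + 1)) (CohB1.specQuotTrans J k)) (hp : IsProper (p 0))
  (e : ∀ k, Xs k ⟶ Y) (he : ∀ k, e k = i k ≫ e (k + 1))
  (hpb : ∀ k, IsPullback (e k) (p k) (Y ↘ Spec (CommRingCat.of A)) (CohB1.specQuot J k))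
  {L : (k : ℕ) → (Xs k).Modules} (hL : ∀ k, PicF.IsInvertible (L k))
  (φ : ∀ k, (Scheme.Modules.pullback (i k)).obj (L (k + 1)) ≅ L k)

include hcart hp he hpb hL φ in
theorem isAmple_algebraization (ha : CohB1.IsAmple (L 0)) {M : Y.Modules} (hM : PicF.IsInvertible M)
    (α : ∀ k, (Scheme.Modules.pullback (e k)).obj M ≅ L k) : CohB1.IsAmple M := by
  haveI : IsLocallyNoetherian Y := LocallyOfFiniteType.isLocallyNoetherian (Y ↘ Spec (CommRingCat.of A))
  haveI : CompactSpace Y := QuasiCompact.compactSpace_of_compactSpace (Y ↘ Spec (CommRingCat.of A))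
  refine isAmple_of_H1 hM fun F i₀ hi₀ hF0 => ?_
  haveI := hi₀
  have hF : Coh.IsCoh F := isCoh_of_mono i₀ hF0
    ((isCoh_iff_finite_sections _).2 ⟨isQuasicoherent_unit, fun U _ => (Module.Finite.self Γ(Y, U) :)⟩)
  let S : AdicSys J p i :=
    { cart := hcart
      F := fun k => (Scheme.Modules.pullback (e k)).obj F
      coh := fun k => isCoh_pullback' (e k) hF
      ψ := fun k => (Scheme.Modules.pullbackComp (i k) (e (k + 1))).app F ≪≫
        (Scheme.Modules.pullbackCongr (he k).symm).app F }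
  obtain ⟨d₀, hd₀⟩ := S.exists_van hp hL φ ha
  refine ⟨d₀, ?_⟩
  have hMd := isInvertible_tensorPow hM (d₀ + 1)
  let N := CohB1.tensorMod F (CohB1.tensorPow M (d₀ + 1))
  have hN : Coh.IsCoh N := H11Ample.isCoh_tensor hF hMd
  have hlev : ∀ n, Subsingleton (Formal.HHmodPow J N 1 n) := fun n => by
    haveI := isClosedImmersion_e e hpb n
    obtain ⟨u⟩ := nonempty_modPow_iso_push (J := J) (e n) (n + 1) (ker_e e hpb n) hN
    obtain ⟨w⟩ := exists_iso_pullback_tensorPow (e n) hM (d₀ + 1)
    let v : (Scheme.Modules.pullback (e n)).obj N ≅ CohB1.tensorMod ((Scheme.Modules.pullback (e n)).obj F)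
        (CohB1.tensorPow (L n) (d₀ + 1)) :=
      (H16Derived.KFlat.Stalk.pullTensorLIso (e n) (CohB1.tensorPow M (d₀ + 1))).app F ≪≫
        PicGrp.tensorModIso (Iso.refl _) (w ≪≫ tensorPowIso (α n) (d₀ + 1))
    haveI : ((Scheme.Modules.pullback (e n)).obj N).IsQuasicoherent := (isCoh_pullback' (e n) hN).1
    refine @Equiv.subsingleton _ _ (HHEquiv _ 1).toEquiv (subsingleton_of_iso u.symm ?_)
    exact @Equiv.subsingleton _ _ (affineLerayEquiv (e n) _ 1 ⊤).toEquiv
      (subsingleton_of_iso v.symm ((hd₀ (d₀ + 1) d₀.le_succ n).1 1 one_pos))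
  have hHH : Subsingleton (Coh.HH Y N 1) := ⟨fun a b =>
    (LeadFF.toHHlim_bijective J N 1 (LeadFF.properCoh_of_isProper _ hN)).1
      (Subtype.ext (funext fun n => (hlev n).elim _ _))⟩
  exact @Equiv.subsingleton _ _ (HHEquiv N 1).toEquiv.symm hHH

end Groth.Agent.LeadGE
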