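import Groth.Agent.LeadUV.Adic
import Groth.Agent.H11Ample.RelQuasiAffine
import Groth.Agent.H10Coh.TensorBasics

/-!
# Sections of a line bundle on an adic system lift in high degree
-/

set_option autoImplicit false
set_option linter.style.haveILetI false
set_option linter.unusedSectionVars false

noncomputable section

universe u

open CategoryTheory CategoryTheory.Limits AlgebraicGeometry Opposite TopologicalSpace
open Groth.Agent.H11Tilde Groth.Agent.H11Ample

namespace Groth.Agent.LeadUV.AdicSys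

open Groth.Agent.H10Coh Groth.Agent.H10Coh.Tw

attribute [local instance 10000] H10Coh.hasSheafifyAb H10Coh.hasWeakSheafifyAb H10Coh.hasExtAb H10Coh.enoughInjAb

variable {A : Type u} [CommRing A] {J : Ideal A} {Xs : ℕ → Scheme.{u}}
  {p : (k : ℕ) → (Xs k ⟶ Spec (CommRingCat.of (A ⧸ J ^ (k + 1))))} {i : (k : ℕ) → (Xs k ⟶ Xs (k + 1))}
  (S S' : AdicSys J p i)

/-- Killed by the constants in the `(k+1)`-st power. -/
def Killed (k : ℕ) (Q : (Xs (k + 1)).Modules) : Prop :=
  ∀ a ∈ J ^ (k + 1), ∀ (W : (Xs (k + 1)).Opens) (y : Γ(Q, W)), sc J p (k + 1) W a • y = 0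

include S in
theorem killed_push (k : ℕ) (M : (Xs k).Modules) :
    Killed (J := J) (p := p) k ((Scheme.Modules.pushforward (i k)).obj M) := fun a ha W y => by
  show (i k).app W (sc J p (k + 1) W a) • (show Γ(M, i k ⁻¹ᵁ W) from y) = 0
  rw [app_sc J p i S.cart, sc_eq_zero J p ha, zero_smul]

theorem killed_tensor {k : ℕ} {Q N : (Xs (k + 1)).Modules} (hN : PicF.IsInvertible N)
    (h : Killed (J := J) (p := p) k Q) : Killed (J := J) (p := p) k (CohB1.tensorMod Q N) := fun a ha W y => by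
  refine H11Tilde.eq_of_locally _ _ fun x hx => ?_
  obtain ⟨V, hV, e, m, hxV, -, hm⟩ := exists_eq_tm hN y hx
  refine ⟨V, hV, hxV, ?_⟩
  rw [map_zero, Scheme.Modules.map_smul, sc_res, hm, ← tm_smul_left, h a ha, tm_zero_left]

theorem ι_comp_eq_zero (k : ℕ) {Q : (Xs (k + 1)).Modules} (hQ : Killed (J := J) (p := p) k Q)
    (f : S.F (k + 1) ⟶ Q) : S.ι k ≫ f = 0 := by
  refine LeadFF.hom_ext_affine _ _ fun W hW x => ?_
  show f.app W ((S.ι k).app W x) = 0
  have h := S.mem_of_trans_eq_zero k hW ((S.ι k).app W x) (by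
    show (S.ι k ≫ S.trans k).app W x = 0
    rw [ι_trans]
    rfl)
  refine Submodule.smul_induction_on h (fun r hr z _ => ?_) (fun z z' hz hz' => by rw [map_add, hz, hz', add_zero])
  rw [Scheme.Modules.Hom.app_smul]
  generalize f.app W z = y
  induction hr using Submodule.span_induction with
  | mem c hc => obtain ⟨b, hb, rfl⟩ := hc; exact hQ b hb W y
  | zero => rw [zero_smul]
  | add c c' _ _ h h' => rw [add_smul, h, h', add_zero]
  | smul e c _ h => rw [smul_eq_mul, mul_smul, h, smul_zero]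

theorem ι_tensor_comp_eq_zero (k : ℕ) {Q N : (Xs (k + 1)).Modules} (hN : PicF.IsInvertible N)
    (hQ : Killed (J := J) (p := p) k Q) (f : CohB1.tensorMod (S.F (k + 1)) N ⟶ Q) :
    LimSh.tensorModMap (S.ι k) N ≫ f = 0 := by
  refine LeadFF.hom_ext_sections _ _ fun W z => ?_
  refine H11Tilde.eq_of_locally _ _ fun x hx => ?_
  obtain ⟨V, hV, e, m, hxV, he, hm⟩ := exists_eq_tm hN z hx
  obtain ⟨U, hU, hxU, hUV'⟩ := exists_isAffineOpen_mem_and_subset (U := V) hxV
  have hUV : U ≤ V := hUV'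
  refine ⟨U, le_trans hUV hV, hxU, ?_⟩
  have hz : (CohB1.tensorMod (S.P k) N).presheaf.map (homOfLE (le_trans hUV hV)).op z =
      tm ((S.P k).presheaf.map (homOfLE hUV).op m) (N.presheaf.map (homOfLE hUV).op e) := by
    rw [← tm_res, ← hm, H10Coh.mres_mres]
  rw [← app_map_apply, ← app_map_apply, hz]
  show f.app U ((LimSh.tensorModMap (S.ι k) N).app U (tm _ _)) = 0
  rw [map_tm]
  let mm := (S.P k).presheaf.map (homOfLE hUV).op m
  have h := S.mem_of_trans_eq_zero k hU ((S.ι k).app U mm) (by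
    show (S.ι k ≫ S.trans k).app U mm = 0
    rw [ι_trans]
    rfl)
  refine Submodule.smul_induction_on (p := fun q => f.app U (tm q (N.presheaf.map (homOfLE hUV).op e)) = 0) h
    (fun r hr q _ => ?_) (fun q q' hq hq' => by rw [tm_add_left, map_add, hq, hq', add_zero])
  rw [tm_smul_left, Scheme.Modules.Hom.app_smul]
  generalize f.app U (tm q (N.presheaf.map (homOfLE hUV).op e)) = y
  induction hr using Submodule.span_induction with
  | mem c hc => obtain ⟨b, hb, rfl⟩ := hc; exact hQ b hb U y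
  | zero => rw [zero_smul]
  | add c c' _ _ h h' => rw [add_smul, h, h', add_zero]
  | smul e c _ h => rw [smul_eq_mul, mul_smul, h, smul_zero]

/-- Sections lift when the first cohomology of the twisted graded piece vanishes. -/
theorem surjective_trans_top [IsNoetherianRing A] (k : ℕ) {N : (Xs (k + 1)).Modules} (hN : PicF.IsInvertible N)
    (e : S'.F (k + 1) ≅ CohB1.tensorMod (S.F (k + 1)) N)
    (h : Subsingleton (HnM (CohB1.tensorMod (S.P k) N) 1 ⊤)) : Function.Surjective ((S'.trans k).app ⊤) := by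
  haveI := S'.epi_trans k
  let τ₁ := e.hom ≫ LimSh.tensorModMap (S.trans k) N
  have h1 : S'.ι k ≫ τ₁ = 0 := S'.ι_comp_eq_zero k (killed_tensor hN (S.killed_push k (S.F k))) τ₁
  let g := Abelian.epiDesc (S'.trans k) τ₁ h1
  have hg : S'.trans k ≫ g = τ₁ := Abelian.comp_epiDesc _ _ _
  have hs := shortExact_seq (S.trans_shortExact k) hN
  obtain ⟨g', hg'⟩ : ∃ g', LimSh.tensorModMap (S.trans k) N ≫ g' = e.inv ≫ S'.trans k :=
    haveI := hs.epi_g
    ⟨hs.exact.desc _ (S.ι_tensor_comp_eq_zero k hN (S'.killed_push k (S'.F k)) (e.inv ≫ S'.trans k)),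
      hs.exact.g_desc _ _⟩
  have hgg : g ≫ g' = 𝟙 _ := by
    rw [← cancel_epi (S'.trans k), ← Category.assoc, hg, Category.assoc, hg', Iso.hom_inv_id_assoc,
      Category.comp_id]
  intro y
  obtain ⟨x, hx⟩ := surjective_app_of_subsingleton_HnM hs ⊤ h (g.app ⊤ y)
  refine ⟨e.inv.app ⊤ x, ?_⟩
  refine (congr($(congrArg (fun φ => Scheme.Modules.Hom.app φ ⊤) hg') x)).symm.trans ?_
  show g'.app ⊤ ((LimSh.tensorModMap (S.trans k) N).app ⊤ x) = y
  refine (congrArg (g'.app ⊤) hx).trans ?_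
  exact congr($(congrArg (fun φ => Scheme.Modules.Hom.app φ ⊤) hgg) y)

end Groth.Agent.LeadUV.AdicSys

namespace Groth.Agent.LeadGE

open Groth.Agent.H10Coh Groth.Agent.H10Coh.Tw Groth.Agent.LeadUV

attribute [local instance 10000] H10Coh.hasSheafifyAb H10Coh.hasWeakSheafifyAb H10Coh.hasExtAb H10Coh.enoughInjAb

variable {A : Type u} [CommRing A] [IsNoetherianRing A] {J : Ideal A} {Xs : ℕ → Scheme.{u}}
  {p : (k : ℕ) → (Xs k ⟶ Spec (CommRingCat.of (A ⧸ J ^ (k + 1))))} {i : (k : ℕ) → (Xs k ⟶ Xs (k + 1))}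
  (hcart : ∀ k, IsPullback (i k) (p k) (p (k + 1)) (CohB1.specQuotTrans J k)) (hp : IsProper (p 0))

theorem isCoh_tensorPow (hcart : ∀ k, IsPullback (i k) (p k) (p (k + 1)) (CohB1.specQuotTrans J k))
    (hp : IsProper (p 0)) {L : (k : ℕ) → (Xs k).Modules} (hL : ∀ k, PicF.IsInvertible (L k)) (d k : ℕ) :
    Coh.IsCoh (CohB1.tensorPow (L k) d) := by
  haveI := isNoetherian_level J p i hcart hp k
  exact H10Coh.isCoh_of_iso (H10Coh.Tw.leftUnitIso (CohB1.tensorPow (L k) d))
    (H11Ample.isCoh_tensor (isCoh_structureModule' (Xs k)) (isInvertible_tensorPow (hL k) d))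

variable {L : (k : ℕ) → (Xs k).Modules} (hL : ∀ k, PicF.IsInvertible (L k))
  (φ : ∀ k, (Scheme.Modules.pullback (i k)).obj (L (k + 1)) ≅ L k)

/-- The powers on consecutive levels. -/
def powIso (d k : ℕ) : (Scheme.Modules.pullback (i k)).obj (CohB1.tensorPow (L (k + 1)) d) ≅ CohB1.tensorPow (L k) d :=
  (exists_iso_pullback_tensorPow (i k) (hL (k + 1)) d).some ≪≫ tensorPowIso (φ k) d

/-- The system of powers of the line bundle. -/
def powSys (d : ℕ) : AdicSys J p i where
  cart := hcart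
  F k := CohB1.tensorPow (L k) d
  coh := isCoh_tensorPow hcart hp hL d
  ψ := powIso hL φ d

/-- The system of structure modules. -/
def unitSys : AdicSys J p i where
  cart := hcart
  F k := Coh.structureModule (Xs k)
  coh k := isCoh_structureModule' (Xs k)
  ψ k := (nonempty_pullback_structureModule_iso (i k)).some

include hcart hp hL φ in
/-- Sections of high powers lift along the system. -/
theorem exists_surjective_pow (ha : CohB1.IsAmple (L 0)) :
    ∃ d₀, ∀ d, d₀ ≤ d → ∀ k, Function.Surjective (((powSys hcart hp hL φ d).trans k).app ⊤) := by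
  obtain ⟨d₀, h⟩ := (unitSys hcart).exists_van hp hL φ ha
  exact ⟨d₀, fun d hd k => (unitSys hcart).surjective_trans_top (powSys hcart hp hL φ d) k
    (isInvertible_tensorPow (hL (k + 1)) d)
    (H10Coh.Tw.leftUnitIso (CohB1.tensorPow (L (k + 1)) d)).symm ((h d hd k).2 1 Nat.one_pos)⟩

end Groth.Agent.LeadGE
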